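import Groth.Agent.Lib.Constr.Scheme
import Groth.Agent.Lib.Constr.Topology
import Groth.Agent.Lib.LimStage.Points
import Mathlib.Topology.Category.TopCat.Limits.Konig

/-!
# Pro- and ind-constructible sets along limits with affine transition maps
-/

set_option autoImplicit false
set_option backward.isDefEq.respectTransparency false

universe u

open CategoryTheory Limits AlgebraicGeometry Topology TopologicalSpace Set

namespace GrothLib.ConsLim

variable {I : Type u} [SmallCategory I] [IsCofiltered I] (D : I ⥤ Scheme.{u}) (c : Cone D)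
  [∀ (i j : I) (f : i ⟶ j), IsAffineHom (D.map f)] (hc : IsLimit c)

include hc in
/-- A compatible system of pro-constructible minus ind-constructible sets, nonempty over an affine open
at each stage, has a point in the limit. -/
theorem exists_mem_of_nonempty (i₀ : I) (U : (D.obj i₀).Opens) (hU : IsAffineOpen U)
    (E F : ∀ i : I, Set (D.obj i))
    (hE : ∀ i, ProCons.IsProConstructible (E i)) (hF : ∀ i, ProCons.IsIndConstructible (F i))
    (hEm : ∀ (i j : I) (φ : i ⟶ j), E i ⊆ D.map φ ⁻¹' E j)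
    (hFm : ∀ (i j : I) (φ : i ⟶ j), D.map φ ⁻¹' F j ⊆ F i)
    (h : ∀ j : Over i₀, ∃ x : D.obj j.left, D.map j.hom x ∈ U ∧ x ∈ E j.left ∧ x ∉ F j.left) :
    ∃ x : c.pt, (∀ i, c.π.app i x ∈ E i) ∧ ∀ i, c.π.app i x ∉ F i := by
  let V : ∀ j : Over i₀, (D.obj j.left).Opens := fun j => D.map j.hom ⁻¹ᵁ U
  have hV : ∀ j, IsAffineOpen (V j) := fun j => hU.preimage (D.map j.hom)
  haveI : ∀ j, IsAffine (V j).toScheme := hV
  have hVle : ∀ {j k : Over i₀} (φ : j ⟶ k), V j ≤ D.map φ.left ⁻¹ᵁ V k := by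
    intro j k φ x hx
    show D.map k.hom (D.map φ.left x) ∈ U
    rw [← Scheme.Hom.comp_apply, ← D.map_comp, Over.w φ]
    exact hx
  let tr : ∀ {j k : Over i₀} (φ : j ⟶ k), (V j).toScheme ⟶ (V k).toScheme :=
    fun φ => (D.map φ.left).resLE _ _ (hVle φ)
  have htr : ∀ {j k : Over i₀} (φ : j ⟶ k) (x : (V j).toScheme), (tr φ x).1 = D.map φ.left x.1 :=
    fun φ x => Scheme.Hom.coe_resLE_apply _ (hVle φ) x
  let G : ∀ j : Over i₀, Set (V j).toScheme := fun j =>
    (Subtype.val ⁻¹' E j.left) \ (Subtype.val ⁻¹' F j.left)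
  have hG : ∀ j, IsClosed[constructibleTopology (V j).toScheme] (G j) := by
    intro j
    haveI := Constr.compactSpace_of_isAffineOpen (hV j)
    haveI := Constr.quasiSeparatedSpace_of_isAffineOpen (hV j)
    have h1 := Constr.isClosed_preimage_of_isProConstructible (hE j.left) (V j)
    have h2 := Constr.isOpen_preimage_of_isIndConstructible (hF j.left) (V j)
    have h3 : ∀ (Z : Type u) (τ : TopologicalSpace Z) (A B : Set Z), IsClosed[τ] A → IsOpen[τ] B →
        IsClosed[τ] (A \ B) := fun Z τ A B hA hB => IsClosed.sdiff hA hB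
    exact h3 _ _ _ _ h1 h2
  have hmap : ∀ {j k : Over i₀} (φ : j ⟶ k) (x : (V j).toScheme), x ∈ G j → tr φ x ∈ G k := by
    rintro j k φ x ⟨hxE, hxF⟩
    refine ⟨?_, fun hk => hxF ?_⟩
    · show (tr φ x).1 ∈ E k.left
      rw [htr]
      exact hEm _ _ φ.left hxE
    · refine hFm _ _ φ.left ?_
      show D.map φ.left x.1 ∈ F k.left
      rw [← htr]
      exact hk
  let T : ∀ j : Over i₀, TopologicalSpace (G j) := fun j =>
    TopologicalSpace.induced Subtype.val (constructibleTopology (V j).toScheme)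
  let K : Over i₀ ⥤ TopCat.{u} :=
    { obj := fun j => @TopCat.of (G j) (T j)
      map := fun {j k} φ => @TopCat.ofHom (G j) (G k) (T j) (T k)
        (@ContinuousMap.mk (G j) (G k) (T j) (T k) (fun x => ⟨tr φ x.1, hmap φ x.1 x.2⟩) (by
          rw [continuous_induced_rng]
          exact @Continuous.comp (G j) (V j).toScheme (V k).toScheme (T j) (constructibleTopology _)
            (constructibleTopology _) _ _ (Constr.continuous_constructibleTopology (tr φ)) continuous_induced_dom))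
      map_id := fun j => by
        apply TopCat.ext
        intro x
        apply Subtype.ext
        apply Subtype.ext
        refine (htr (𝟙 j) x.1).trans ?_
        rw [Over.id_left, D.map_id]
        rfl
      map_comp := fun {j k l} φ ψ => by
        apply TopCat.ext
        intro x
        apply Subtype.ext
        apply Subtype.ext
        refine (htr (φ ≫ ψ) x.1).trans ?_
        rw [Over.comp_left, D.map_comp, Scheme.Hom.comp_apply, ← htr φ]
        exact (htr ψ _).symm }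
  haveI : ∀ j, Nonempty (K.obj j) := fun j => by
    obtain ⟨x, hxU, hxE, hxF⟩ := h j
    exact ⟨⟨⟨x, hxU⟩, hxE, hxF⟩⟩
  haveI : ∀ j, T2Space (K.obj j) := fun j => by
    haveI := @Constr.t2Space_constructibleTopology (V j).toScheme _ _ _
    exact @Topology.IsEmbedding.t2Space (G j) (V j).toScheme (T j) (constructibleTopology _) this _
      (@Topology.IsEmbedding.subtypeVal _ (constructibleTopology _) _)
  haveI : ∀ j, CompactSpace (K.obj j) := fun j => by
    haveI hcs := @Constr.compactSpace_constructibleTopology (V j).toScheme _ _ _ _ _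
    have hcl := hG j
    letI : TopologicalSpace (V j).toScheme := constructibleTopology _
    exact isCompact_iff_compactSpace.mp hcl.isCompact
  obtain ⟨⟨u, hu⟩⟩ := TopCat.nonempty_limitCone_of_compact_t2_cofiltered_system.{u, u} K
  -- extend to all indices
  have hex : ∀ i : I, ∃ (j : Over i₀), Nonempty (j.left ⟶ i) := fun i =>
    ⟨Over.mk (IsCofiltered.minToRight i i₀), ⟨IsCofiltered.minToLeft i i₀⟩⟩
  choose J hJ using hex
  let s : ∀ i, D.obj i := fun i => D.map (hJ i).some (u (J i)).1.1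
  have hs : ∀ (i : I) (j : Over i₀) (a : j.left ⟶ i), D.map a (u j).1.1 = s i := by
    intro i j a
    obtain ⟨m, b₁, b₂, hb⟩ : ∃ (m : I) (b₁ : m ⟶ j.left) (b₂ : m ⟶ (J i).left),
        b₁ ≫ a = b₂ ≫ (hJ i).some ∧ b₁ ≫ j.hom = b₂ ≫ (J i).hom := by
      obtain ⟨m, hm₁, hm₂, hm⟩ : ∃ (m : I) (b₁ : m ⟶ j.left) (b₂ : m ⟶ (J i).left),
          b₁ ≫ a = b₂ ≫ (hJ i).some := IsCofiltered.cospan a (hJ i).some
      refine ⟨IsCofiltered.eq (hm₁ ≫ j.hom) (hm₂ ≫ (J i).hom),
        IsCofiltered.eqHom (hm₁ ≫ j.hom) (hm₂ ≫ (J i).hom) ≫ hm₁,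
        IsCofiltered.eqHom (hm₁ ≫ j.hom) (hm₂ ≫ (J i).hom) ≫ hm₂, ?_, ?_⟩
      · rw [Category.assoc, Category.assoc, hm]
      · rw [Category.assoc, Category.assoc, IsCofiltered.eq_condition]
    let mm : Over i₀ := Over.mk (b₁ ≫ j.hom)
    have e1 : (u j).1.1 = D.map b₁ (u mm).1.1 := by
      rw [← hu (Over.homMk b₁ rfl : mm ⟶ j)]
      exact htr _ _
    have e2 : (u (J i)).1.1 = D.map b₂ (u mm).1.1 := by
      rw [← hu (Over.homMk b₂ hb.2.symm : mm ⟶ J i)]
      exact htr _ _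
    show _ = D.map (hJ i).some (u (J i)).1.1
    rw [e1, e2, ← Scheme.Hom.comp_apply, ← Scheme.Hom.comp_apply, ← D.map_comp, ← D.map_comp, hb.1]
  have hcomp : ∀ {i j : I} (f : i ⟶ j), D.map f (s i) = s j := by
    intro i j f
    rw [← hs j (J i) ((hJ i).some ≫ f), D.map_comp, Scheme.Hom.comp_apply]
  obtain ⟨x, hx⟩ := LimStage.exists_π_eq D c hc s hcomp
  refine ⟨x, fun i => ?_, fun i hi => ?_⟩
  · rw [hx i]
    exact hEm _ _ (hJ i).some (u (J i)).2.1
  · rw [hx i] at hi
    exact (u (J i)).2.2 (hFm _ _ (hJ i).some hi)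

include hc in
/-- An inclusion of a pro-constructible system in an ind-constructible system in the limit holds at
some stage. -/
theorem exists_stage_subset (i₀ : I) [CompactSpace (D.obj i₀)] (E F : ∀ i : I, Set (D.obj i))
    (hE : ∀ i, ProCons.IsProConstructible (E i)) (hF : ∀ i, ProCons.IsIndConstructible (F i))
    (hEm : ∀ (i j : I) (φ : i ⟶ j), E i ⊆ D.map φ ⁻¹' E j)
    (hFm : ∀ (i j : I) (φ : i ⟶ j), D.map φ ⁻¹' F j ⊆ F i)
    (h : (⋂ i, c.π.app i ⁻¹' E i : Set c.pt) ⊆ ⋃ i, c.π.app i ⁻¹' F i) :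
    ∃ (i : I) (_ : i ⟶ i₀), ∀ (j : I) (_ : j ⟶ i), E j ⊆ F j := by
  classical
  have hloc : ∀ U : (D.obj i₀).affineOpens, ∃ j : Over i₀,
      ∀ x : D.obj j.left, D.map j.hom x ∈ U.1 → x ∈ E j.left → x ∈ F j.left := by
    intro U
    by_contra hcon
    push Not at hcon
    obtain ⟨x, hxE, hxF⟩ := exists_mem_of_nonempty D c hc i₀ U.1 U.2 E F hE hF hEm hFm hcon
    obtain ⟨i, hi⟩ := mem_iUnion.mp (h (mem_iInter.mpr hxE))
    exact hxF i hi
  choose J hJ using hloc
  obtain ⟨t, ht⟩ := isCompact_univ.elim_finite_subcover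
    (fun U : (D.obj i₀).affineOpens => (U.1 : Set (D.obj i₀))) (fun U => U.1.2) (fun x _ => by
      obtain ⟨U, hU, hxU, -⟩ := exists_isAffineOpen_mem_and_subset (Opens.mem_top x)
      exact mem_iUnion.mpr ⟨⟨U, hU⟩, hxU⟩)
  obtain ⟨m, hm⟩ := IsCofiltered.inf_objs_exists (t.image J)
  refine ⟨m.left, m.hom, fun j φ x hxE => ?_⟩
  obtain ⟨U, hUt, hxU⟩ := mem_iUnion₂.mp (ht (mem_univ (D.map (φ ≫ m.hom) x)))
  obtain ⟨b⟩ := hm (Finset.mem_image_of_mem J hUt)
  have hb : φ ≫ b.left ≫ (J U).hom = φ ≫ m.hom := by rw [Over.w b]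
  refine hFm _ _ (φ ≫ b.left) (hJ U (D.map (φ ≫ b.left) x) ?_ (hEm _ _ (φ ≫ b.left) hxE))
  rw [← Scheme.Hom.comp_apply, ← D.map_comp, Category.assoc, hb]
  exact hxU

include hc in
/-- An ind-constructible set at a stage containing the image of the limit contains the image of a
later stage. -/
theorem exists_stage_forall_mem (i₀ : I) [CompactSpace (D.obj i₀)] {E₀ : Set (D.obj i₀)}
    (hE₀ : ProCons.IsIndConstructible E₀) (h : ∀ x : c.pt, c.π.app i₀ x ∈ E₀) :
    ∃ (j : I) (φ : j ⟶ i₀), ∀ y : D.obj j, D.map φ y ∈ E₀ := by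
  let F : ∀ i, Set (D.obj i) := fun i => ⋃ φ : i ⟶ i₀, D.map φ ⁻¹' E₀
  have hF : ∀ i, ProCons.IsIndConstructible (F i) := fun i => by
    refine Constr.isIndConstructible_of_forall_mem fun x hx => ?_
    obtain ⟨V, hV, hxV, -⟩ := Constr.exists_affine_nhd x isOpen_univ (mem_univ x)
    haveI := Constr.compactSpace_of_isAffineOpen hV
    haveI := Constr.quasiSeparatedSpace_of_isAffineOpen hV
    refine ⟨V, hxV, inferInstance, inferInstance, ?_⟩
    rw [preimage_iUnion]
    exact @isOpen_iUnion _ _ (constructibleTopology (V : Set (D.obj i))) _ fun φ =>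
      Constr.isOpen_preimage_of_isIndConstructible (Constr.isIndConstructible_preimage (D.map φ) hE₀) V
  obtain ⟨i, a, hi⟩ := exists_stage_subset D c hc i₀ (fun _ => univ) F
    (fun i => Constr.isProConstructible_of_forall fun x => by
      obtain ⟨V, hV, hxV, -⟩ := Constr.exists_affine_nhd x isOpen_univ (mem_univ x)
      refine ⟨V, hxV, Constr.compactSpace_of_isAffineOpen hV, Constr.quasiSeparatedSpace_of_isAffineOpen hV, ?_⟩
      rw [preimage_univ]
      exact @isClosed_univ _ (constructibleTopology _))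
    hF (fun _ _ _ => subset_univ _) (fun i j φ y hy => by
      obtain ⟨ψ, hψ⟩ := mem_iUnion.mp hy
      refine mem_iUnion.mpr ⟨φ ≫ ψ, ?_⟩
      show D.map (φ ≫ ψ) y ∈ E₀
      rw [D.map_comp, Scheme.Hom.comp_apply]; exact hψ)
    (fun x _ => mem_iUnion.mpr ⟨i₀, mem_iUnion.mpr ⟨𝟙 _, by
      show D.map (𝟙 i₀) (c.π.app i₀ x) ∈ E₀
      rw [← Scheme.Hom.comp_apply, c.w]; exact h x⟩⟩)
  -- one morphism serving all points of the stage
  have hlater : ∀ y : D.obj i, ∃ φ : i ⟶ i₀, D.map φ y ∈ E₀ := fun y => mem_iUnion.mp (hi i (𝟙 i) (mem_univ y))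
  obtain ⟨j, φ, hφ⟩ : ∃ (j : I) (φ : j ⟶ i₀), ∀ y : D.obj j, D.map φ y ∈ E₀ := by
    haveI : IsAffineHom (D.map a) := inferInstance
    haveI : CompactSpace (D.obj i) := QuasiCompact.compactSpace_of_compactSpace (D.map a)
    have hcov : (univ : Set (D.obj i)) ⊆ ⋃ φ : i ⟶ i₀, D.map φ ⁻¹' E₀ := fun y _ =>
      mem_iUnion.mpr (hlater y)
    obtain ⟨t, ht⟩ := Constr.exists_finite_subcover
      (Constr.isProConstructible_iff_compl.mpr (by
        rw [compl_univ]; exact Constr.isIndConstructible_of_isOpen isOpen_empty))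
      (fun φ : i ⟶ i₀ => Constr.isIndConstructible_preimage (D.map φ) hE₀) hcov
    obtain ⟨m, b, hb⟩ : ∃ (m : I) (b : m ⟶ i), ∀ φ ∈ t, b ≫ φ = b ≫ a := by
      classical
      clear ht
      induction t using Finset.induction_on with
      | empty => exact ⟨i, 𝟙 i, by simp⟩
      | insert φ t _ ih =>
        obtain ⟨m, b, hb⟩ := ih
        refine ⟨IsCofiltered.eq (b ≫ φ) (b ≫ a), IsCofiltered.eqHom (b ≫ φ) (b ≫ a) ≫ b, fun ψ hψ => ?_⟩
        rcases Finset.mem_insert.mp hψ with rfl | hψ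
        · rw [Category.assoc, Category.assoc, IsCofiltered.eq_condition]
        · rw [Category.assoc, Category.assoc, hb ψ hψ]
    refine ⟨m, b ≫ a, fun y => ?_⟩
    obtain ⟨φ, hφt, hφ⟩ := mem_iUnion₂.mp (ht (mem_univ (D.map b y)))
    rw [← hb φ hφt, D.map_comp, Scheme.Hom.comp_apply]
    exact hφ
  exact ⟨j, φ, hφ⟩

end GrothLib.ConsLim
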