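import Groth.Agent.Lib.ConsLim.LimTop2
import Groth.Agent.Lib.FlatLimit.Stage
import Groth.Agent.Lib.CycLimit.Basic
import Groth.Agent.Lib.LimStage.Fiber
import Groth.Agent.Lib.LimStage.Points
import Groth.Agent.Lib.LimDesc.Basic
import Mathlib.RingTheory.Flat.EquationalCriterion
import Mathlib.AlgebraicGeometry.Morphisms.Flat
import Mathlib.AlgebraicGeometry.Morphisms.UniversallyOpen

/-!
# Flatness, reducedness and openness of projections from limits
-/

set_option autoImplicit false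
set_option backward.isDefEq.respectTransparency false
set_option linter.style.haveILetI false
universe u

open CategoryTheory Limits AlgebraicGeometry Topology TopologicalSpace Set

namespace GrothLib.ConsLim

variable {I : Type u} [SmallCategory I] [IsCofiltered I] {D : I ⥤ Scheme.{u}} {c : Cone D}
  [∀ (i j : I) (f : i ⟶ j), IsAffineHom (D.map f)] (hc : IsLimit c)

theorem appLE_congr_hom {X Y : Scheme.{u}} {f g : X ⟶ Y} (h : f = g) (U : Y.Opens) (V : X.Opens)
    (e : V ≤ f ⁻¹ᵁ U) (e' : V ≤ g ⁻¹ᵁ U) (a : Γ(Y, U)) : f.appLE U V e a = g.appLE U V e' a := by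
  subst h; rfl

theorem appLE_appLE {X Y Z : Scheme.{u}} {f : X ⟶ Y} {g : Y ⟶ Z} {l : X ⟶ Z} (h : f ≫ g = l)
    (U : Z.Opens) (V : Y.Opens) (W : X.Opens) (e₁ : V ≤ g ⁻¹ᵁ U) (e₂ : W ≤ f ⁻¹ᵁ V) (e : W ≤ l ⁻¹ᵁ U)
    (a : Γ(Z, U)) : f.appLE V W e₂ (g.appLE U V e₁ a) = l.appLE U W e a := by
  subst h
  exact congr($(Scheme.Hom.appLE_comp_appLE f g U V W e₁ e₂) a)

variable (D) in
theorem stage_le {i k m : I} (φ : k ⟶ i) (ψ : m ⟶ k) (U : (D.obj i).Opens) :
    D.map (ψ ≫ φ) ⁻¹ᵁ U = D.map ψ ⁻¹ᵁ (D.map φ ⁻¹ᵁ U) := by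
  rw [D.map_comp]; rfl

variable (c) in
/-- The projection from the limit. -/
abbrev pr (k : I) : c.pt ⟶ D.obj k := c.π.app k

variable (c) in
theorem pr_w {i k : I} (φ : k ⟶ i) : pr c k ≫ D.map φ = pr c i := c.w φ

variable (c) in
theorem π_le {i k : I} (φ : k ⟶ i) (U : (D.obj i).Opens) :
    pr c i ⁻¹ᵁ U ≤ pr c k ⁻¹ᵁ (D.map φ ⁻¹ᵁ U) :=
  le_of_eq (congr($(pr_w c φ) ⁻¹ᵁ U)).symm

include hc in
/-- Finitely many sections over an affine open come from a common stage. -/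
theorem exists_common_lift {i : I} {U : (D.obj i).Opens} (hU : IsAffineOpen U) {l : ℕ}
    (x : Fin l → Γ(c.pt, pr c i ⁻¹ᵁ U)) :
    ∃ (k : I) (φ : k ⟶ i) (t : Fin l → Γ(D.obj k, D.map φ ⁻¹ᵁ U)),
      ∀ n, (pr c k).appLE _ _ (π_le c φ U) (t n) = x n := by
  classical
  choose k φ e t ht using fun n => FlatLimit.exists_appLE_π_eq D c hc hU (x n)
  obtain ⟨m, hm⟩ := IsCofiltered.inf_objs_exists
    (insert (Over.mk (𝟙 i)) (Finset.univ.image fun n => Over.mk (φ n)))
  have b : ∀ n, m ⟶ Over.mk (φ n) := fun n =>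
    (hm (Finset.mem_insert_of_mem (Finset.mem_image_of_mem _ (Finset.mem_univ n)))).some
  have hle : ∀ n, D.map m.hom ⁻¹ᵁ U ≤ D.map (b n).left ⁻¹ᵁ (D.map (φ n) ⁻¹ᵁ U) := fun n => by
    have h : (b n).left ≫ φ n = m.hom := Over.w (b n)
    rw [← stage_le D, h]
  refine ⟨m.left, m.hom, fun n => (D.map (b n).left).appLE _ _ (hle n) (t n), fun n => ?_⟩
  exact (appLE_appLE (pr_w c (b n).left) _ _ _ _ _ (π_le c (φ n) U) (t n)).trans (ht n)

include hc in
/-- A section over a stage of a quasi-compact open vanishing on the limit vanishes at a later stage. -/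
theorem exists_stage_appLE_eq_zero {i k : I} (φ : k ⟶ i) {U : (D.obj i).Opens} (hU : IsAffineOpen U)
    (s : Γ(D.obj k, D.map φ ⁻¹ᵁ U))
    (hs : (pr c k).appLE _ _ (π_le c φ U) s = 0) :
    ∃ (j : I) (ψ : j ⟶ k), (D.map ψ).appLE (D.map φ ⁻¹ᵁ U) (D.map (ψ ≫ φ) ⁻¹ᵁ U)
      (stage_le D φ ψ U).le s = 0 := by
  have h1 : (pr c k).app (D.map φ ⁻¹ᵁ U) s = 0 := by
    have e : pr c k ⁻¹ᵁ (D.map φ ⁻¹ᵁ U) ≤ pr c i ⁻¹ᵁ U :=
      le_of_eq (congr($(pr_w c φ) ⁻¹ᵁ U))
    rw [Scheme.Hom.app_eq_appLE, ← Scheme.Hom.appLE_map (pr c k) (π_le c φ U) (homOfLE e).op,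
      CommRingCat.comp_apply, hs, map_zero]
  obtain ⟨j, ψ, hj⟩ := exists_app_map_eq_zero_of_isLimit D c hc
    (hU.preimage (D.map φ)).isCompact s h1
  refine ⟨j, ψ, ?_⟩
  rw [Scheme.Hom.appLE, CommRingCat.comp_apply, hj, map_zero]

include hc in
/-- The projection from the limit is flat when the transition maps to that stage are. -/
theorem flat_π (i : I) (hf : ∀ (j : I) (φ : j ⟶ i), Flat (D.map φ)) : Flat (pr c i) := by
  classical
  haveI := isAffineHom_π_app D c hc i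
  have key : ∀ U : (D.obj i).Opens, IsAffineOpen U →
      ((pr c i).appLE U (pr c i ⁻¹ᵁ U) le_rfl).hom.Flat := by
    intro U hU
    algebraize [((pr c i).appLE U (pr c i ⁻¹ᵁ U) le_rfl).hom]
    refine Module.Flat.iff_forall_isTrivialRelation.mpr fun {l f x} hrel => ?_
    obtain ⟨k, φ, t, ht⟩ := exists_common_lift hc hU x
    let ρ := (D.map φ).appLE U (D.map φ ⁻¹ᵁ U) le_rfl
    obtain ⟨j, ψ, hj⟩ := exists_stage_appLE_eq_zero hc φ hU (∑ n, ρ (f n) * t n) (by
      rw [map_sum]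
      refine Eq.trans (Finset.sum_congr rfl fun n _ => ?_) hrel
      refine (map_mul _ _ _).trans ?_
      rw [Algebra.smul_def]
      exact congrArg₂ (· * ·) (appLE_appLE (pr_w c φ) _ _ _ _ _ le_rfl (f n)) (ht n))
    let W := D.map (ψ ≫ φ) ⁻¹ᵁ U
    let τ := (D.map ψ).appLE (D.map φ ⁻¹ᵁ U) W (stage_le D φ ψ U).le
    let ρ' := (D.map (ψ ≫ φ)).appLE U W le_rfl
    have hflat : ρ'.hom.Flat := HasRingHomProperty.appLE (P := @Flat) _ (hf j (ψ ≫ φ)) ⟨U, hU⟩
      ⟨W, hU.preimage _⟩ le_rfl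
    algebraize [ρ'.hom]
    have hrel' : ∑ n, f n • τ (t n) = 0 := by
      rw [← hj, map_sum]
      refine Finset.sum_congr rfl fun n _ => ?_
      rw [map_mul, appLE_appLE (D.map_comp ψ φ).symm _ _ _ _ _ le_rfl]
      rfl
    obtain ⟨κ, a, y, hxy, hay⟩ :=
      Module.Flat.iff_forall_isTrivialRelation.mp (inferInstance : Module.Flat Γ(D.obj i, U) Γ(D.obj j, W))
        hrel'
    let σ := (pr c j).appLE W (pr c i ⁻¹ᵁ U) (π_le c (ψ ≫ φ) U)
    refine ⟨κ, a, fun m => σ (y m), fun n => ?_, hay⟩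
    refine ((ht n).symm.trans (appLE_appLE (pr_w c ψ) _ W _ (stage_le D φ ψ U).le (π_le c (ψ ≫ φ) U)
      (π_le c φ U) (t n)).symm).trans ?_
    show σ (τ (t n)) = _
    rw [show τ (t n) = _ from hxy n, map_sum]
    refine Finset.sum_congr rfl fun m _ => ?_
    refine (map_mul σ.hom _ _).trans ?_
    exact congrArg (· * σ (y m)) (appLE_appLE (pr_w c (ψ ≫ φ)) _ _ _ _ _ le_rfl (a n m))
  rw [HasRingHomProperty.iff_appLE (P := @Flat)]
  intro U V e
  have h2 : ((𝟙 c.pt : c.pt ⟶ c.pt).appLE (pr c i ⁻¹ᵁ U.1) V.1 e).hom.Flat :=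
    HasRingHomProperty.appLE (P := @Flat) _ (MorphismProperty.id_mem @Flat c.pt) ⟨pr c i ⁻¹ᵁ U.1, U.2.preimage _⟩ V e
  have h3 : (pr c i).appLE U.1 V.1 e =
      (pr c i).appLE U.1 _ le_rfl ≫ (𝟙 c.pt : c.pt ⟶ c.pt).appLE (pr c i ⁻¹ᵁ U.1) V.1 e := by
    ext a
    exact (appLE_appLE (Category.id_comp (pr c i)) U.1 (pr c i ⁻¹ᵁ U.1) V.1 le_rfl e e a).symm
  rw [h3]
  exact (key U.1 U.2).comp h2

include hc in
/-- A limit of reduced schemes is reduced, in contrapositive form. -/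
theorem exists_stage_not_isReduced (h : ¬ IsReduced c.pt) :
    ∃ i : I, ∀ (j : I) (_ : j ⟶ i), ¬ IsReduced (D.obj j) := by
  classical
  obtain ⟨i₀⟩ := IsCofiltered.nonempty (C := I)
  haveI := isAffineHom_π_app D c hc i₀
  obtain ⟨U, hU, b, hb0, hb⟩ : ∃ (U : (D.obj i₀).Opens) (_ : IsAffineOpen U)
      (b : Γ(c.pt, pr c i₀ ⁻¹ᵁ U)), b ≠ 0 ∧ IsNilpotent b := by
    by_contra hcon
    push Not at hcon
    let 𝒱 := c.pt.openCoverOfIsOpenCover (fun U : (D.obj i₀).affineOpens => pr c i₀ ⁻¹ᵁ U.1)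
      (.mk (by
        refine top_le_iff.mp fun x _ => ?_
        obtain ⟨U, hU, hxU, -⟩ := exists_isAffineOpen_mem_and_subset (Opens.mem_top (pr c i₀ x))
        exact Opens.mem_iSup.mpr ⟨⟨U, hU⟩, hxU⟩))
    haveI : ∀ U, IsReduced (𝒱.X U) := fun U => by
      haveI : IsAffine (pr c i₀ ⁻¹ᵁ U.1).toScheme := U.2.preimage _
      haveI : _root_.IsReduced Γ(c.pt, pr c i₀ ⁻¹ᵁ U.1) :=
        ⟨fun b hb => by by_contra h0; exact hcon U.1 U.2 b h0 hb⟩
      haveI : _root_.IsReduced Γ((pr c i₀ ⁻¹ᵁ U.1).toScheme, ⊤) :=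
        isReduced_of_injective (pr c i₀ ⁻¹ᵁ U.1).topIso.hom.hom
          (pr c i₀ ⁻¹ᵁ U.1).topIso.commRingCatIsoToRingEquiv.injective
      haveI : IsReduced (Spec Γ((pr c i₀ ⁻¹ᵁ U.1).toScheme, ⊤)) := inferInstance
      exact isReduced_of_isOpenImmersion (pr c i₀ ⁻¹ᵁ U.1).toScheme.isoSpec.hom
    exact h (IsReduced.of_openCover (𝒰 := 𝒱))
  obtain ⟨n, hn⟩ := hb
  obtain ⟨k, φ, t, ht⟩ := exists_common_lift hc hU (fun _ : Fin 1 => b)
  obtain ⟨j, ψ, hj⟩ := exists_stage_appLE_eq_zero hc φ hU (t 0 ^ n) (by rw [map_pow, ht, hn])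
  refine ⟨j, fun m a hred => ?_⟩
  let τ := (D.map (a ≫ ψ)).appLE (D.map φ ⁻¹ᵁ U) (D.map ((a ≫ ψ) ≫ φ) ⁻¹ᵁ U)
    (stage_le D φ (a ≫ ψ) U).le
  have hz : τ (t 0) ^ n = 0 := by
    rw [← map_pow]
    have e : D.map ((a ≫ ψ) ≫ φ) ⁻¹ᵁ U ≤ D.map a ⁻¹ᵁ (D.map (ψ ≫ φ) ⁻¹ᵁ U) := by
      rw [← stage_le D, Category.assoc]
    show (D.map (a ≫ ψ)).appLE _ _ _ (t 0 ^ n) = 0
    rw [← appLE_appLE (D.map_comp a ψ).symm (D.map φ ⁻¹ᵁ U) (D.map (ψ ≫ φ) ⁻¹ᵁ U) _
      (stage_le D φ ψ U).le e, hj, map_zero]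
  have hz' : τ (t 0) = 0 := IsNilpotent.eq_zero ⟨n, hz⟩
  refine hb0 ?_
  rw [← ht 0, ← appLE_appLE (pr_w c (a ≫ ψ)) _ _ _ (stage_le D φ (a ≫ ψ) U).le
    (π_le c ((a ≫ ψ) ≫ φ) U) _ (t 0)]
  show (pr c m).appLE _ _ _ (τ (t 0)) = 0
  rw [hz', map_zero]

include hc in
/-- For surjective transition maps the projections are surjective. -/
theorem surjective_π (i : I) (hs : ∀ (j : I) (φ : j ⟶ i), Surjective (D.map φ)) :
    Surjective (c.π.app i) :=
  ⟨fun s => by
    have : s ∈ Set.range (c.π.app i) := by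
      rw [LimStage.range_π_eq D c hc i]
      exact mem_iInter₂.mpr fun j φ => (hs j φ).surj s
    exact this⟩

/-- Reducedness descends along flat surjections. -/
theorem isReduced_of_flat_surjective {A B : Scheme.{u}} (f : A ⟶ B) [Flat f] [Surjective f]
    [IsReduced A] : IsReduced B := by
  have : ∀ x, _root_.IsReduced (B.presheaf.stalk x) := fun x => by
    obtain ⟨z, rfl⟩ := f.surjective x
    have hf := Flat.stalkMap f z
    algebraize [(f.stalkMap z).hom]
    have : Module.FaithfullyFlat (B.presheaf.stalk (f z)) (A.presheaf.stalk z) :=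
      @Module.FaithfullyFlat.of_flat_of_isLocalHom _ _ _ _ _ _ _ hf (f.toLRSHom.prop z)
    exact isReduced_of_injective (algebraMap _ (A.presheaf.stalk z))
      (FaithfulSMul.algebraMap_injective _ _)
  exact isReduced_of_isReduced_stalk B

include hc in
theorem isReduced_limit_iff (hf : ∀ (i j : I) (φ : i ⟶ j), Flat (D.map φ) ∧ Surjective (D.map φ)) :
    IsReduced c.pt ↔ ∀ i : I, IsReduced (D.obj i) := by
  refine ⟨fun h i => ?_, fun h => ?_⟩
  · haveI : Flat (pr c i) := flat_π hc i fun j φ => (hf j i φ).1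
    haveI : Surjective (pr c i) := surjective_π hc i fun j φ => (hf j i φ).2
    haveI := h
    exact isReduced_of_flat_surjective (pr c i)
  · by_contra hc'
    obtain ⟨i, hi⟩ := exists_stage_not_isReduced hc hc'
    exact hi i (𝟙 i) (h i)

include hc in
/-- Openness of a projection from openness of the transition maps. -/
theorem isOpenMap_π (i : I) (hs : ∀ (j : I) (_ : j ⟶ i), Surjective (c.π.app j))
    (h : ∀ (j : I) (φ : j ⟶ i), IsOpenMap (D.map φ)) : IsOpenMap (c.π.app i) := by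
  refine (IsTopologicalBasis.isOpenMap_iff (isBasis_preimage_isAffineOpen D c hc)).mpr ?_
  rintro _ ⟨O, ⟨a, V, -, rfl⟩, rfl⟩
  let k := IsCofiltered.min i a
  let p := IsCofiltered.minToLeft i a
  let q := IsCofiltered.minToRight i a
  have e : c.π.app i '' ((c.π.app a ⁻¹ᵁ V : c.pt.Opens) : Set c.pt) =
      D.map p '' (D.map q ⁻¹' (V : Set (D.obj a))) := by
    have e1 : ((c.π.app a ⁻¹ᵁ V : c.pt.Opens) : Set c.pt) =
        c.π.app k ⁻¹' (D.map q ⁻¹' (V : Set (D.obj a))) := (π_preimage_map D c q _).symm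
    rw [e1]
    ext s
    refine ⟨?_, ?_⟩
    · rintro ⟨x, hx, rfl⟩
      exact ⟨c.π.app k x, hx, by rw [← Scheme.Hom.comp_apply, c.w]; rfl⟩
    · rintro ⟨z, hz, rfl⟩
      obtain ⟨x, rfl⟩ := (hs k p).surj z
      exact ⟨x, hz, by rw [← Scheme.Hom.comp_apply, c.w]; rfl⟩
  exact e.symm ▸ h k p _ (V.2.preimage (Scheme.Hom.continuous _))

omit [IsCofiltered I] [∀ (i j : I) (f : i ⟶ j), IsAffineHom (D.map f)] in
theorem isOpenMap_map (i : I) (hs : ∀ (j : I) (_ : j ⟶ i), Surjective (c.π.app j))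
    (h : IsOpenMap (c.π.app i)) (j : I) (φ : j ⟶ i) : IsOpenMap (D.map φ) := by
  intro U hU
  have e : D.map φ '' U = c.π.app i '' (c.π.app j ⁻¹' U) := by
    ext s
    refine ⟨?_, ?_⟩
    · rintro ⟨z, hz, rfl⟩
      obtain ⟨x, rfl⟩ := (hs j φ).surj z
      exact ⟨x, hz, by rw [← Scheme.Hom.comp_apply, c.w]; rfl⟩
    · rintro ⟨x, hx, rfl⟩
      exact ⟨c.π.app j x, hx, by rw [← Scheme.Hom.comp_apply, c.w]; rfl⟩
  rw [e]
  exact h _ (hU.preimage (Scheme.Hom.continuous _))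

include hc in
/-- Universal openness of a projection. -/
theorem universallyOpen_π_iff (i : I) (hs : ∀ (j : I) (_ : j ⟶ i), Surjective (c.π.app j)) :
    UniversallyOpen (c.π.app i) ↔ ∀ (j : I) (φ : j ⟶ i), UniversallyOpen (D.map φ) := by
  refine ⟨fun h j φ => ⟨?_⟩, fun h => ⟨?_⟩⟩
  · intro Z W q₁ r f' sq
    let P := pullback (c.π.app j) q₁
    haveI : Surjective (pullback.snd (c.π.app j) q₁) := MorphismProperty.pullback_snd _ _ (hs j φ)
    have h1 : IsPullback (pullback.fst (c.π.app j) q₁) (pullback.snd (c.π.app j) q₁ ≫ f')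
        (c.π.app i) r := by
      rw [← c.w φ]
      exact (IsPullback.of_hasPullback _ _).paste_vert sq.flip
    have h2 := h.universally_isOpenMap _ _ _ h1.flip
    intro U hU
    have e : f' '' U = (pullback.snd (c.π.app j) q₁ ≫ f') '' (pullback.snd (c.π.app j) q₁ ⁻¹' U) := by
      ext z
      refine ⟨?_, ?_⟩
      · rintro ⟨w, hw, rfl⟩
        obtain ⟨v, rfl⟩ := Scheme.Hom.surjective (pullback.snd (c.π.app j) q₁) w
        exact ⟨v, hw, rfl⟩
      · rintro ⟨v, hv, rfl⟩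
        exact ⟨_, hv, rfl⟩
    rw [e]
    exact h2 _ (hU.preimage (Scheme.Hom.continuous _))
  · intro Z W q r f' sq
    show IsOpenMap f'
    have hP : IsPullback f' q r (c.π.app i) := sq
    let E := LimDesc.diag D i r
    let cE := LimDesc.cone D i r (c := c) hP
    have hcE : IsLimit cE := LimDesc.isLimitCone D i r hP hc
    haveI : ∀ (j k : Over i) (a : j ⟶ k), IsAffineHom (E.map a) := fun j k a =>
      LimDesc.isAffineHom_map D i r a
    let top : Over i := Over.mk (𝟙 i)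
    have hsurj : ∀ (j : Over i) (_ : j ⟶ top), Surjective (cE.π.app j) := fun j _ => by
      have h1 : IsPullback (cE.π.app j) q (pullback.snd r (D.map j.hom)) (c.π.app j.left) := by
        refine IsPullback.of_right ?_ (LimDesc.π_snd D i r hP j) (IsPullback.of_hasPullback r (D.map j.hom))
        rw [LimDesc.π_fst, c.w]
        exact hP
      exact MorphismProperty.of_isPullback (P := @Surjective) h1.flip (hs j.left j.hom)
    have hopen : ∀ (j : Over i) (a : j ⟶ top), IsOpenMap (E.map a) := fun j a => by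
      have h0 : UniversallyOpen (D.map a.left) := by
        have e : a.left = j.hom := (Category.comp_id _).symm.trans (Over.w a)
        rw [e]; exact h _ _
      exact h0.universally_isOpenMap _ _ _ (LimDesc.isPullback_map D i r a)
    have hmain := isOpenMap_π hcE top hsurj hopen
    let p := pullback.fst r (D.map top.hom)
    haveI : IsIso (D.map top.hom) := by
      show IsIso (D.map (𝟙 i)); rw [D.map_id]; infer_instance
    haveI : IsIso p := inferInstance
    have e : f' = cE.π.app top ≫ p := (LimDesc.π_fst D i r hP top).symm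
    rw [e]
    exact fun U hU => by
      have h1 := p.homeomorph.isOpenMap _ (hmain U hU)
      rw [← Set.image_comp] at h1
      exact h1

include hc in
/-- For open immersions as transition maps the projections are embeddings. -/
theorem isEmbedding_π (hoi : ∀ (i j : I) (φ : i ⟶ j), IsOpenImmersion (D.map φ)) (i : I) :
    IsEmbedding (c.π.app i) := by
  refine ⟨⟨le_antisymm (Scheme.Hom.continuous (c.π.app i)).le_induced ?_⟩, fun x y hxy => ?_⟩
  · intro U hU
    rw [isOpen_induced_iff]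
    let T : Set (D.obj i) := ⋃₀ {W | IsOpen W ∧ c.π.app i ⁻¹' W ⊆ U}
    refine ⟨T, isOpen_sUnion fun W hW => hW.1, Subset.antisymm ?_ ?_⟩
    · rintro x ⟨W, hW, hxW⟩; exact hW.2 hxW
    · intro x hx
      obtain ⟨O, ⟨a, V, hV, rfl⟩, hxV, hVU⟩ := Opens.isBasis_iff_nbhd.mp
        (isBasis_preimage_isAffineOpen D c hc) (U := ⟨U, hU⟩) hx
      haveI := hoi (IsCofiltered.min i a) i (IsCofiltered.minToLeft i a)
      let p := IsCofiltered.minToLeft i a
      let q := IsCofiltered.minToRight i a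
      refine ⟨D.map p '' (D.map q ⁻¹' (V : Set (D.obj a))),
        ⟨(D.map p).isOpenEmbedding.isOpenMap _ (V.2.preimage (Scheme.Hom.continuous _)), ?_⟩, ?_⟩
      · rintro y ⟨z, hz, hzy⟩
        refine hVU ?_
        have e : z = c.π.app (IsCofiltered.min i a) y :=
          (D.map p).injective (by rw [hzy, ← Scheme.Hom.comp_apply, c.w]; rfl)
        rw [e] at hz
        exact (Set.ext_iff.mp (π_preimage_map D c q (V : Set (D.obj a))) y).mp hz
      · refine ⟨c.π.app _ x, (Set.ext_iff.mp (π_preimage_map D c q (V : Set (D.obj a))) x).mpr hxV, ?_⟩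
        rw [← Scheme.Hom.comp_apply, c.w]; rfl
  · refine LimStage.eq_of_forall_π_eq D c hc fun j => ?_
    haveI := hoi (IsCofiltered.min i j) i (IsCofiltered.minToLeft i j)
    have h1 : c.π.app (IsCofiltered.min i j) x = c.π.app (IsCofiltered.min i j) y :=
      (D.map (IsCofiltered.minToLeft i j)).injective (by
        rw [← Scheme.Hom.comp_apply, ← Scheme.Hom.comp_apply, c.w]; exact hxy)
    rw [← c.w (IsCofiltered.minToRight i j)]
    exact congrArg (fun z => D.map (IsCofiltered.minToRight i j) z) h1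

include hc in
/-- For open immersions as transition maps the projections induce isomorphisms on stalks. -/
theorem isIso_stalkMap_π (hoi : ∀ (i j : I) (φ : i ⟶ j), IsOpenImmersion (D.map φ)) (i : I) (s : c.pt) :
    IsIso ((pr c i).stalkMap s) := by
  haveI : Flat (pr c i) := flat_π hc i fun j φ => (haveI := hoi j i φ; inferInstance)
  have hbij : Function.Bijective ((pr c i).stalkMap s).hom := by
    refine ⟨?_, fun a => ?_⟩
    · have hf := Flat.stalkMap (pr c i) s
      algebraize [((pr c i).stalkMap s).hom]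
      have : Module.FaithfullyFlat ((D.obj i).presheaf.stalk (pr c i s)) (c.pt.presheaf.stalk s) :=
        @Module.FaithfullyFlat.of_flat_of_isLocalHom _ _ _ _ _ _ _ hf ((pr c i).toLRSHom.prop s)
      exact FaithfulSMul.algebraMap_injective _ _
    · obtain ⟨j, φ, b, rfl⟩ := CycLimit.exists_stalkMap_eq D c hc i s a
      haveI := hoi j i φ
      have h := Scheme.Hom.stalkMap_comp (c.π.app j) (D.map φ) s
      obtain ⟨b', rfl⟩ : ∃ b', (D.map φ).stalkMap (c.π.app j s) b' = b :=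
        (ConcreteCategory.bijective_of_isIso ((D.map φ).stalkMap (c.π.app j s))).2 b
      obtain ⟨l, hl⟩ : ∃ l : c.pt ⟶ D.obj i, l = c.π.app j ≫ D.map φ := ⟨_, rfl⟩
      have key : ∀ (l : c.pt ⟶ D.obj i) (_ : l = c.π.app j ≫ D.map φ),
          ∃ b'', l.stalkMap s b'' = (c.π.app j).stalkMap s ((D.map φ).stalkMap (c.π.app j s) b') := by
        rintro _ rfl
        exact ⟨b', congr($h b')⟩
      exact key _ (c.w φ).symm
  exact (ConcreteCategory.isIso_iff_bijective _).mpr hbij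

end GrothLib.ConsLim
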