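import Groth.Agent.Lib.ConsLim.Pair
import Groth.Agent.Lib.LimDesc.Proper
import Groth.Agent.Lib.LimDesc.Local
import Groth.Agent.Lib.LimDesc.Finite
import Groth.Agent.Lib.LimDesc.Transfer
import Groth.Agent.Lib.IndQA.Basic
import Groth.Prelude.Def_MoreMor

/-!
# The properties of morphisms which descend to a stage
-/

set_option autoImplicit false
set_option backward.isDefEq.respectTransparency false
set_option linter.style.haveILetI false
universe u

open CategoryTheory Limits AlgebraicGeometry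

noncomputable section

namespace GrothLib.ConsLim

open LimDesc

theorem descends_isIso : DescendsToStage (MorphismProperty.isomorphisms Scheme.{u}) := by
  intro I _ _ D c _ hc i₀ _ _ X₀ Y₀ f₀ g₀ _ _ _ _ _ _ X Y f g qY qX hY hX hf
  haveI := (MorphismProperty.isomorphisms.iff _).mp hf
  haveI : QuasiCompact f₀ := quasiCompact_of_compactSpace f₀
  haveI : QuasiSeparated f₀ := inferInstance
  obtain ⟨j, hj⟩ := exists_isIso_of_compactSpace D hc f₀ g₀ hY hX
  exact ⟨j, hj⟩

theorem descends_isClosedImmersion : DescendsToStage @IsClosedImmersion := by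
  intro I _ _ D c _ hc i₀ _ _ X₀ Y₀ f₀ g₀ _ _ _ _ _ _ X Y f g qY qX hY hX hf
  haveI := hf
  exact exists_isClosedImmersion D hc f₀ g₀ hY hX

theorem descends_isOpenImmersion : DescendsToStage @IsOpenImmersion := by
  intro I _ _ D c _ hc i₀ _ _ X₀ Y₀ f₀ g₀ _ _ _ _ _ _ X Y f g qY qX hY hX hf
  haveI := hf
  exact exists_isOpenImmersion D hc f₀ g₀ hY hX

theorem descends_surjective : DescendsToStage @Surjective := by
  intro I _ _ D c _ hc i₀ _ _ X₀ Y₀ f₀ g₀ _ _ _ _ _ _ X Y f g qY qX hY hX hf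
  haveI := hf
  exact exists_surjective D hc f₀ g₀ hY hX

theorem descends_isFinite : DescendsToStage @IsFinite := by
  intro I _ _ D c _ hc i₀ _ _ X₀ Y₀ f₀ g₀ _ _ _ _ _ _ X Y f g qY qX hY hX hf
  haveI := hf
  exact exists_isFinite D hc f₀ g₀ hY hX

theorem descends_isAffineHom : DescendsToStage @IsAffineHom := by
  intro I _ _ D c _ hc i₀ _ _ X₀ Y₀ f₀ g₀ _ _ _ _ _ _ X Y f g qY qX hY hX hf
  haveI := hf
  exact exists_isAffineHom D hc f₀ g₀ hY hX

theorem descends_universallyInjective : DescendsToStage @UniversallyInjective := by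
  intro I _ _ D c _ hc i₀ _ _ X₀ Y₀ f₀ g₀ _ _ _ _ _ _ X Y f g qY qX hY hX hf
  haveI := hf
  exact exists_universallyInjective D hc f₀ g₀ hY hX

theorem descends_isImmersion : DescendsToStage @IsImmersion := by
  intro I _ _ D c _ hc i₀ _ _ X₀ Y₀ f₀ g₀ _ _ _ _ _ _ X Y f g qY qX hY hX hf
  haveI := hf
  exact exists_isImmersion D hc f₀ g₀ hY hX

theorem descends_mono : DescendsToStage (MorphismProperty.monomorphisms Scheme.{u}) := by
  intro I _ _ D c _ hc i₀ _ _ X₀ Y₀ f₀ g₀ _ _ _ _ _ _ X Y f g qY qX hY hX hf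
  haveI := (MorphismProperty.monomorphisms.iff _).mp hf
  obtain ⟨j, hj⟩ := exists_mono D hc f₀ g₀ hY hX
  exact ⟨j, hj⟩

theorem descends_isSeparated : DescendsToStage @IsSeparated := by
  intro I _ _ D c _ hc i₀ _ _ X₀ Y₀ f₀ g₀ _ _ _ _ _ _ X Y f g qY qX hY hX hf
  haveI := hf
  exact LimDesc.exists_isSeparated D hc f₀ g₀ hY hX

theorem descends_isProper : DescendsToStage @IsProper := by
  intro I _ _ D c _ hc i₀ _ _ X₀ Y₀ f₀ g₀ _ _ _ _ _ _ X Y f g qY qX hY hX hf
  haveI := hf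
  exact exists_isProper D hc f₀ g₀ hY hX

/-- Quasi-finite morphisms. -/
def quasiFinite : MorphismProperty Scheme.{u} :=
  fun _ _ f => LocallyOfFiniteType f ∧ QuasiCompact f ∧ LocallyQuasiFinite f

instance : quasiFinite.{u}.IsStableUnderBaseChange :=
  ⟨fun h ⟨h₁, h₂, h₃⟩ => ⟨MorphismProperty.of_isPullback h h₁, MorphismProperty.of_isPullback h h₂,
    MorphismProperty.of_isPullback h h₃⟩⟩

theorem descends_quasiFinite : DescendsToStage quasiFinite.{u} := by
  intro I _ _ D c _ hc i₀ _ _ X₀ Y₀ f₀ g₀ _ _ _ _ _ _ X Y f g qY qX hY hX hf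
  haveI := hf.2.2
  obtain ⟨j, hj⟩ := exists_locallyQuasiFinite D hc f₀ g₀ hY hX
  have h := isPullback_mapNat D i₀ g₀ (f₀ ≫ g₀) f₀ rfl j
  exact ⟨j, MorphismProperty.of_isPullback h (inferInstanceAs (LocallyOfFiniteType f₀)),
    MorphismProperty.of_isPullback h (quasiCompact_of_compactSpace f₀), hj⟩

/-- Quasi-affine morphisms. -/
def quasiAffine : MorphismProperty Scheme.{u} := fun _ _ f => MoreMor.IsQuasiAffineHom f

theorem indQA_of_quasiAffine {X Y : Scheme.{u}} {f : X ⟶ Y} (h : MoreMor.IsQuasiAffineHom f) :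
    MoreMor.IsIndQuasiAffineHom f :=
  (IndQA.indQA_iff f).mpr fun V hV W hW hWc => IndQA.qa_mono (h.2 V hV) hWc hW

theorem quasiAffine_of_indQA {X Y : Scheme.{u}} {f : X ⟶ Y} [QuasiCompact f]
    (h : MoreMor.IsIndQuasiAffineHom f) : MoreMor.IsQuasiAffineHom f :=
  ⟨inferInstance, fun V hV =>
    (IndQA.indQA_iff f).mp h V hV _ le_rfl (f.isCompact_preimage hV.isCompact)⟩

instance : quasiAffine.{u}.IsStableUnderBaseChange :=
  ⟨fun {X Y Y' S f g f' g'} sq hg => by
    haveI : QuasiCompact g := hg.1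
    haveI : QuasiCompact g' := MorphismProperty.of_isPullback sq hg.1
    exact quasiAffine_of_indQA (IndQA.indQA_baseChange g g' f' f sq (indQA_of_quasiAffine hg))⟩

theorem descends_quasiAffine : DescendsToStage quasiAffine.{u} := by
  intro I _ _ D c _ hc i₀ _ _ X₀ Y₀ f₀ g₀ _ _ _ _ _ _ X Y f g qY qX hY hX hf
  exact exists_isQuasiAffine D hc f₀ g₀ hY hX hf

end GrothLib.ConsLim
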