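import Groth.Agent.Lib.ConsLim.Limit
import Mathlib.Topology.NoetherianSpace
import Mathlib.Topology.Connected.Clopen

/-!
# Topology of limits with affine transition maps
-/

set_option autoImplicit false
set_option backward.isDefEq.respectTransparency false
set_option linter.style.haveILetI false
universe u

open CategoryTheory Limits AlgebraicGeometry Topology TopologicalSpace Set

namespace GrothLib.ConsLim

variable {I : Type u} [SmallCategory I] [IsCofiltered I] (D : I ⥤ Scheme.{u}) (c : Cone D)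
  [∀ (i j : I) (f : i ⟶ j), IsAffineHom (D.map f)] (hc : IsLimit c)

omit [IsCofiltered I] in
theorem compactSpace_stage {i₀ i : I} (φ : i ⟶ i₀) [CompactSpace (D.obj i₀)] : CompactSpace (D.obj i) :=
  QuasiCompact.compactSpace_of_compactSpace (D.map φ)

omit [IsCofiltered I] in
theorem quasiSeparatedSpace_stage {i₀ i : I} (φ : i ⟶ i₀) [QuasiSeparatedSpace (D.obj i₀)] :
    QuasiSeparatedSpace (D.obj i) :=
  quasiSeparatedSpace_of_quasiSeparated (D.map φ)

omit [∀ (i j : I) (f : i ⟶ j), IsAffineHom (D.map f)] in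
theorem π_preimage_map {i j : I} (φ : j ⟶ i) (E : Set (D.obj i)) :
    c.π.app j ⁻¹' (D.map φ ⁻¹' E) = c.π.app i ⁻¹' E := by
  rw [← c.w φ]; rfl

include hc in
theorem compactSpace_limit (i₀ : I) [CompactSpace (D.obj i₀)] : CompactSpace c.pt :=
  haveI := isAffineHom_π_app D c hc i₀
  QuasiCompact.compactSpace_of_compactSpace (c.π.app i₀)

include hc in
theorem quasiSeparatedSpace_limit (i₀ : I) [QuasiSeparatedSpace (D.obj i₀)] : QuasiSeparatedSpace c.pt :=
  haveI := isAffineHom_π_app D c hc i₀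
  quasiSeparatedSpace_of_quasiSeparated (c.π.app i₀)

include hc in
/-- A limit of nonempty schemes below a quasi-compact stage is nonempty. -/
theorem nonempty_limit (i₀ : I) [CompactSpace (D.obj i₀)]
    (h : ∀ (j : I) (_ : j ⟶ i₀), Nonempty (D.obj j)) : Nonempty c.pt := by
  haveI : ∀ j : Over i₀, CompactSpace ((Over.forget i₀ ⋙ D).obj j) := fun j => compactSpace_stage D j.hom
  haveI : ∀ j : Over i₀, Nonempty ((Over.forget i₀ ⋙ D).obj j) := fun j => h j.left j.hom
  haveI : ∀ (j k : Over i₀) (a : j ⟶ k), IsAffineHom ((Over.forget i₀ ⋙ D).map a) :=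
    fun j k a => inferInstanceAs (IsAffineHom (D.map a.left))
  exact Scheme.nonempty_of_isLimit (D := Over.forget i₀ ⋙ D) _
    ((Functor.Initial.isLimitWhiskerEquiv (Over.forget i₀) c).symm hc)

include hc in
/-- An open set with inverse image everything is everything at a later stage. -/
theorem exists_stage_eq_top (m : I) [CompactSpace (D.obj m)] {V : Set (D.obj m)} (hV : IsOpen V)
    (h : c.π.app m ⁻¹' V = univ) : ∃ (j : I) (φ : j ⟶ m), D.map φ ⁻¹' V = univ := by
  obtain ⟨j, φ, hj⟩ := exists_stage_forall_mem D c hc m (Constr.isIndConstructible_of_isOpen hV)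
    (fun x => Set.eq_univ_iff_forall.mp h x)
  exact ⟨j, φ, eq_univ_of_forall hj⟩

include hc in
/-- A compact open of the limit comes from an open of a stage below a given one. -/
theorem exists_open_preimage_eq (i₀ : I) (W : Set c.pt) (hWo : IsOpen W) (hW : IsCompact W) :
    ∃ (m : I) (_ : m ⟶ i₀) (V : Set (D.obj m)), IsOpen V ∧ IsCompact V ∧ c.π.app m ⁻¹' V = W := by
  obtain ⟨i, V, hV, hVW⟩ := exists_preimage_eq D c hc ⟨W, hWo⟩ hW
  refine ⟨IsCofiltered.min i i₀, IsCofiltered.minToRight i i₀,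
    D.map (IsCofiltered.minToLeft i i₀) ⁻¹' (V : Set (D.obj i)), V.2.preimage (Scheme.Hom.continuous _),
    (D.map (IsCofiltered.minToLeft i i₀)).isCompact_preimage (U := V) hV, ?_⟩
  rw [π_preimage_map]
  exact congrArg SetLike.coe hVW

include hc in
/-- The projections are dominant iff the transition maps are. -/
theorem isDominant_π_iff (i : I) :
    IsDominant (c.π.app i) ↔ ∀ (j : I) (φ : j ⟶ i), IsDominant (D.map φ) := by
  refine ⟨fun h j φ => ?_, fun h => ⟨?_⟩⟩
  · rw [← c.w φ] at h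
    exact IsDominant.of_comp (c.π.app j) (D.map φ)
  · rw [DenseRange, dense_iff_inter_open]
    intro U hU hne
    obtain ⟨y, hy⟩ := hne
    obtain ⟨V, hV, hyV, hVU⟩ := Constr.exists_affine_nhd y hU hy
    let top : Over i := Over.mk (𝟙 i)
    haveI : CompactSpace ↥((opensDiagram D i V).obj top) :=
      isCompact_iff_compactSpace.mp ((D.map top.hom).isCompact_preimage hV.isCompact)
    obtain ⟨x⟩ := nonempty_limit (opensDiagram D i V) (opensCone D c i V)
      (isLimitOpensCone D c hc i V) top (fun j _ => by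
        obtain ⟨z, hz1, hz2⟩ := dense_iff_inter_open.mp (h j.left j.hom).denseRange V V.2 ⟨y, hyV⟩
        obtain ⟨w, rfl⟩ := hz2
        exact ⟨⟨w, hz1⟩⟩)
    exact ⟨c.π.app i x.1, hVU x.2, x.1, rfl⟩

include hc in
/-- A constructible set of the limit comes from a stage. -/
theorem exists_constructible_preimage_eq (i₀ : I) [CompactSpace (D.obj i₀)]
    [QuasiSeparatedSpace (D.obj i₀)] {Z : Set c.pt} (hZ : IsConstructible Z) :
    ∃ (i : I) (_ : i ⟶ i₀) (Zi : Set (D.obj i)), IsConstructible Zi ∧ c.π.app i ⁻¹' Zi = Z := by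
  haveI := compactSpace_limit D c hc i₀
  induction hZ using IsConstructible.empty_union_induction with
  | open_retrocompact U hU hUr =>
    have hUc : IsCompact U := by simpa using hUr isCompact_univ isOpen_univ
    obtain ⟨m, ψ, V, hVo, hVc, hV⟩ := exists_open_preimage_eq D c hc i₀ U hU hUc
    haveI := compactSpace_stage D ψ
    haveI := quasiSeparatedSpace_stage D ψ
    exact ⟨m, ψ, V, IsRetrocompact.isConstructible hVo (fun W hW hWo => QuasiSeparatedSpace.inter_isCompact V W hVo hVc hWo hW), hV⟩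
  | union s hs t ht ihs iht =>
    obtain ⟨i, φ, A, hA, rfl⟩ := ihs
    obtain ⟨j, ψ, B, hB, rfl⟩ := iht
    let k := IsCofiltered.min i j
    refine ⟨k, IsCofiltered.minToLeft i j ≫ φ,
      D.map (IsCofiltered.minToLeft i j) ⁻¹' A ∪ D.map (IsCofiltered.minToRight i j) ⁻¹' B,
      ((D.map _).isConstructible_preimage hA).union ((D.map _).isConstructible_preimage hB), ?_⟩
    rw [preimage_union, π_preimage_map, π_preimage_map]
  | compl s hs ih =>
    obtain ⟨i, φ, A, hA, rfl⟩ := ih
    exact ⟨i, φ, Aᶜ, hA.compl, preimage_compl⟩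

omit [IsCofiltered I] in
/-- In a quasi-compact scheme a pro-constructible set is quasi-compact. -/
theorem isCompact_of_isProConstructible {X : Scheme.{u}} [CompactSpace X] {F : Set X}
    (hF : ProCons.IsProConstructible F) : IsCompact F := by
  obtain ⟨ι, _, V, hV, hcov⟩ : ∃ (ι : Type u) (_ : Finite ι) (V : ι → X.Opens),
      (∀ k, IsAffineOpen (V k)) ∧ ⋃ k, (V k : Set X) = univ := by
    obtain ⟨s, hs⟩ := isCompact_univ.elim_finite_subcover (fun U : X.affineOpens => (U.1 : Set X))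
      (fun U => U.1.2) (fun x _ => by
        obtain ⟨U, hU, hxU, -⟩ := exists_isAffineOpen_mem_and_subset (Opens.mem_top x)
        exact mem_iUnion.mpr ⟨⟨U, hU⟩, hxU⟩)
    refine ⟨{U // U ∈ s}, inferInstance, fun U => U.1.1, fun U => U.1.2, eq_univ_of_forall fun x => ?_⟩
    obtain ⟨U, hU, hx⟩ := mem_iUnion₂.mp (hs (mem_univ x))
    exact mem_iUnion.mpr ⟨⟨U, hU⟩, hx⟩
  have e : F = ⋃ k, (fun x : (V k : Set X) => x.1) '' {x : (V k : Set X) | x.1 ∈ F} := by
    ext x
    refine ⟨fun hx => ?_, fun hx => ?_⟩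
    · obtain ⟨k, hk⟩ := mem_iUnion.mp (hcov.ge (mem_univ x))
      exact mem_iUnion.mpr ⟨k, ⟨x, hk⟩, hx, rfl⟩
    · obtain ⟨k, w, hw, rfl⟩ := mem_iUnion.mp hx
      exact hw
  rw [e]
  refine isCompact_iUnion fun k => IsCompact.image ?_ continuous_subtype_val
  haveI := Constr.compactSpace_of_isAffineOpen (hV k)
  haveI := Constr.quasiSeparatedSpace_of_isAffineOpen (hV k)
  haveI : QuasiSober (V k : Set X) := inferInstanceAs (QuasiSober (V k).toScheme)
  haveI : PrespectralSpace (V k : Set X) := inferInstanceAs (PrespectralSpace (V k).toScheme)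
  have h := @IsCompact.image _ (V k : Set X) (constructibleTopology _) _ _ id
    (Constr.isCompact_constructibleTopology_of_isClosed (Constr.isClosed_preimage_of_isProConstructible hF (V k)))
    Constr.continuous_id_constructibleTopology
  rw [image_id] at h
  exact h

include hc in
/-- Covering a compact set of the limit by preimages of affine opens inside an open. -/
theorem exists_stage_nhd (m : I) {W U : Set c.pt} (hW : IsCompact W) (hU : IsOpen U) (hWU : W ⊆ U) :
    ∃ (k : I) (_ : k ⟶ m) (s : Finset (D.obj k).affineOpens),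
      W ⊆ ⋃ V ∈ s, c.π.app k ⁻¹' (V.1 : Set (D.obj k)) ∧
      ∀ V ∈ s, c.π.app k ⁻¹' (V.1 : Set (D.obj k)) ⊆ U := by
  classical
  let ι := {p : Σ i : I, (D.obj i).affineOpens // c.π.app p.1 ⁻¹' (p.2.1 : Set (D.obj p.1)) ⊆ U}
  obtain ⟨t, ht⟩ := hW.elim_finite_subcover
    (fun p : ι => c.π.app p.1.1 ⁻¹' (p.1.2.1 : Set (D.obj p.1.1)))
    (fun p => p.1.2.1.2.preimage (c.π.app p.1.1).continuous) (fun x hx => by
      obtain ⟨O, ⟨i, V, hV, rfl⟩, hxV, hVU⟩ := TopologicalSpace.Opens.isBasis_iff_nbhd.mp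
        (isBasis_preimage_isAffineOpen D c hc) (U := ⟨U, hU⟩) (hWU hx)
      exact mem_iUnion.mpr ⟨⟨⟨i, V, hV⟩, hVU⟩, hxV⟩)
  obtain ⟨k, hk⟩ := IsCofiltered.inf_objs_exists (insert m (t.image fun p => p.1.1))
  have hkp : ∀ p : t, k ⟶ p.1.1.1 := fun p =>
    (hk (Finset.mem_insert_of_mem (Finset.mem_image_of_mem (fun q : ι => q.1.1) p.2))).some
  refine ⟨k, (hk (Finset.mem_insert_self _ _)).some,
    t.attach.image fun p => ⟨D.map (hkp p) ⁻¹ᵁ p.1.1.2.1, p.1.1.2.2.preimage _⟩, ?_, ?_⟩
  · intro x hx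
    obtain ⟨p, hp, hxp⟩ := mem_iUnion₂.mp (ht hx)
    refine mem_iUnion₂.mpr ⟨_, Finset.mem_image_of_mem _ (Finset.mem_attach t ⟨p, hp⟩), ?_⟩
    show x ∈ c.π.app k ⁻¹' (D.map (hkp ⟨p, hp⟩) ⁻¹' (p.1.2.1 : Set _))
    rw [π_preimage_map]
    exact hxp
  · intro V hV
    obtain ⟨p, -, rfl⟩ := Finset.mem_image.mp hV
    show c.π.app k ⁻¹' (D.map (hkp p) ⁻¹' (p.1.1.2.1 : Set _)) ⊆ U
    rw [π_preimage_map]
    exact p.1.2

include hc in
/-- An inclusion of an affine open in an ind-constructible set descends to a stage. -/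
theorem exists_stage_preimage_subset (m : I) (V : (D.obj m).Opens) (hV : IsAffineOpen V)
    {E : Set (D.obj m)} (hE : ProCons.IsIndConstructible E)
    (h : c.π.app m ⁻¹' (V : Set (D.obj m)) ⊆ c.π.app m ⁻¹' E) :
    ∃ (j : I) (φ : j ⟶ m), D.map φ ⁻¹' (V : Set (D.obj m)) ⊆ D.map φ ⁻¹' E := by
  let top : Over m := Over.mk (𝟙 m)
  haveI : CompactSpace ↥((opensDiagram D m V).obj top) :=
    isCompact_iff_compactSpace.mp ((D.map top.hom).isCompact_preimage hV.isCompact)
  have hπ : ∀ x : (opensCone D c m V).pt,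
      (((opensCone D c m V).π.app top) x).1 = c.π.app m x.1 := fun x =>
    Scheme.Hom.coe_resLE_apply _ _ x
  obtain ⟨j, φ, hj⟩ := exists_stage_forall_mem (opensDiagram D m V) (opensCone D c m V)
    (isLimitOpensCone D c hc m V) top
    (E₀ := (D.map top.hom ⁻¹ᵁ V).ι ⁻¹' E) (Constr.isIndConstructible_preimage _ hE)
    (fun x => by
      show (((opensCone D c m V).π.app top) x).1 ∈ E
      rw [hπ]
      exact h x.2)
  refine ⟨j.left, j.hom, fun y hy => ?_⟩
  have h1 : ((opensDiagram D m V).map φ ⟨y, hy⟩).1 = D.map φ.left y :=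
    Scheme.Hom.coe_resLE_apply _ _ _
  have h2 : ((opensDiagram D m V).map φ ⟨y, hy⟩).1 ∈ E := hj ⟨y, hy⟩
  have h3 : φ.left = j.hom := (Category.comp_id _).symm.trans (Over.w φ)
  rw [h1, h3] at h2
  exact h2

end GrothLib.ConsLim
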