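import Groth.Agent.Lib.LimDescend.Scheme
import Groth.Agent.Lib.LimDescend.FgSub
import Groth.Agent.Lib.LimDescend.Hom

/-!
# Noetherian models of morphisms and pairs over an affine base
-/

set_option autoImplicit false
set_option backward.isDefEq.respectTransparency false
universe u

open CategoryTheory Limits AlgebraicGeometry Opposite

noncomputable section

namespace GrothLib.ConsLim

open GrothLib.LimDesc GrothLib.LimDescend

variable {A : Type u} [CommRing A]

instance isNoetherian_fg (i : (FgSub A)ᵒᵖ) : IsNoetherian ((fgDiagram A).obj i) := by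
  haveI : Algebra.FiniteType ℤ i.unop.1 := (Subalgebra.fg_iff_finiteType _).mp i.unop.2
  haveI : IsNoetherianRing i.unop.1 := Algebra.FiniteType.isNoetherianRing ℤ i.unop.1
  exact inferInstanceAs (IsNoetherian (Spec (CommRingCat.of i.unop.1)))

/-- A scheme of finite presentation over an affine scheme has a Noetherian model. -/
theorem exists_model_scheme {X : Scheme.{u}} (u : X ⟶ Spec (CommRingCat.of A))
    [LocallyOfFinitePresentation u] [QuasiCompact u] [QuasiSeparated u] :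
    ∃ (i : (FgSub A)ᵒᵖ) (X₀ : Scheme.{u}) (u₀ : X₀ ⟶ (fgDiagram A).obj i) (q : X ⟶ X₀),
      LocallyOfFinitePresentation u₀ ∧ QuasiCompact u₀ ∧ QuasiSeparated u₀ ∧
      IsPullback q u u₀ ((fgCone A).π.app i) := by
  obtain ⟨i, ⟨M⟩⟩ := exists_model (fgDiagram A) (fgCone A) (isLimitFgCone A) (X := X) u
  exact ⟨i, M.obj, M.hom, M.proj, M.lfp, M.qc, M.qs, M.isPullback⟩

/-- Two schemes of finite presentation over an affine scheme have a common Noetherian model. -/
theorem exists_model_pair {X Y : Scheme.{u}} (u : X ⟶ Spec (CommRingCat.of A)) (v : Y ⟶ Spec (CommRingCat.of A))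
    [LocallyOfFinitePresentation u] [QuasiCompact u] [QuasiSeparated u]
    [LocallyOfFinitePresentation v] [QuasiCompact v] [QuasiSeparated v] :
    ∃ (i : (FgSub A)ᵒᵖ) (MX : Model (fgDiagram A) (fgCone A) (X := X) u i)
      (_MY : Model (fgDiagram A) (fgCone A) (X := Y) v i), True := by
  obtain ⟨i, ⟨MX⟩⟩ := exists_model (fgDiagram A) (fgCone A) (isLimitFgCone A) (X := X) u
  obtain ⟨j, ⟨MY⟩⟩ := exists_model (fgDiagram A) (fgCone A) (isLimitFgCone A) (X := Y) v
  exact ⟨_, MX.map _ _ (IsCofiltered.minToLeft i j), MY.map _ _ (IsCofiltered.minToRight i j), trivial⟩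

/-- A morphism of schemes of finite presentation over an affine scheme has a Noetherian model. -/
theorem exists_model_mor {X Y : Scheme.{u}} (f : X ⟶ Y) (g : Y ⟶ Spec (CommRingCat.of A))
    [LocallyOfFinitePresentation g] [QuasiCompact g] [QuasiSeparated g]
    [LocallyOfFinitePresentation (f ≫ g)] [QuasiCompact (f ≫ g)] [QuasiSeparated (f ≫ g)] :
    ∃ (i : (FgSub A)ᵒᵖ) (X₀ Y₀ : Scheme.{u}) (f₀ : X₀ ⟶ Y₀) (g₀ : Y₀ ⟶ (fgDiagram A).obj i)
      (qX : X ⟶ X₀) (qY : Y ⟶ Y₀),
      LocallyOfFinitePresentation g₀ ∧ QuasiCompact g₀ ∧ QuasiSeparated g₀ ∧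
      LocallyOfFinitePresentation (f₀ ≫ g₀) ∧ QuasiCompact (f₀ ≫ g₀) ∧ QuasiSeparated (f₀ ≫ g₀) ∧
      IsPullback qY g g₀ ((fgCone A).π.app i) ∧ IsPullback qX f f₀ qY := by
  obtain ⟨i, MX, MY, -⟩ := exists_model_pair (f ≫ g) g
  haveI := compactSpace_model (fgDiagram A) (fgCone A) MX
  haveI := quasiSeparatedSpace_model (fgDiagram A) (fgCone A) MX
  obtain ⟨l, f₀, hf₀, hπ⟩ := exists_hom (fgDiagram A) MX.hom MY.hom MX.isPullback MY.isPullback
    (isLimitFgCone A) f rfl
  let MX' := MX.map (fgDiagram A) (fgCone A) l.hom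
  let MY' := MY.map (fgDiagram A) (fgCone A) l.hom
  have hw : MX'.proj ≫ f₀ = f ≫ MY'.proj := hπ
  have hcomp : f₀ ≫ MY'.hom = MX'.hom := hf₀
  refine ⟨_, MX'.obj, MY'.obj, f₀, MY'.hom, MX'.proj, MY'.proj, MY'.lfp, MY'.qc, MY'.qs, ?_, ?_, ?_,
    MY'.isPullback, ?_⟩
  · rw [hcomp]; exact MX'.lfp
  · rw [hcomp]; exact MX'.qc
  · rw [hcomp]; exact MX'.qs
  · refine IsPullback.of_bot ?_ hw MY'.isPullback
    rw [hcomp]
    exact MX'.isPullback

end GrothLib.ConsLim
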