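import Groth.Agent.Lib.FibreBC.Basic
import Groth.Agent.Lib.FittSheaf.PullbackFP
import Groth.Agent.Lib.StrictTr.Basic
import Groth.Prelude.Def_EGA4Misc
import Groth.Prelude.Def_W4ega4s0809p4Pair

/-!
# Loci of constructible properties under base change
-/

set_option autoImplicit false
set_option backward.isDefEq.respectTransparency false

universe u

open CategoryTheory Limits AlgebraicGeometry Topology

namespace GrothLib.ConsLim

variable {X X' Y Y' S T : Scheme.{u}}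

theorem finiteType_fiber (u : X ⟶ S) [LocallyOfFiniteType u] [QuasiCompact u] (s : S) :
    LocallyOfFiniteType (u.fiberToSpecResidueField s) ∧ QuasiCompact (u.fiberToSpecResidueField s) :=
  ⟨MorphismProperty.pullback_snd u _ inferInstance, MorphismProperty.pullback_snd u _ inferInstance⟩

theorem isPullback_fiberMap (f : X ⟶ Y) (g : Y ⟶ S) (s : S) :
    IsPullback ((f ≫ g).fiberι s) (MoreMor.fiberMap f g s) f (g.fiberι s) := by
  refine IsPullback.of_bot ?_ (pullback.lift_fst _ _ _).symm (IsPullback.of_hasPullback g (S.fromSpecResidueField s))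
  have e : MoreMor.fiberMap f g s ≫ pullback.snd g (S.fromSpecResidueField s) =
      (f ≫ g).fiberToSpecResidueField s := pullback.lift_snd _ _ _
  rw [e]
  exact IsPullback.of_hasPullback (f ≫ g) (S.fromSpecResidueField s)

/-- A field-stable property of schemes has the same locus after base change. -/
theorem mem_locus_iff {P : ∀ ⦃Y T : Scheme.{u}⦄, (Y ⟶ T) → Prop} (hP : ConsProp.IsFieldStable P)
    {u : X ⟶ S} [LocallyOfFiniteType u] [QuasiCompact u] {u' : X' ⟶ T} {q : X' ⟶ X} {h : T ⟶ S}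
    (hX : IsPullback q u' u h) (t : T) :
    t ∈ ConsProp.locus P u' ↔ h t ∈ ConsProp.locus P u := by
  obtain ⟨i, -, hi⟩ := FibreBC.exists_isPullback_fiber hX t
  haveI := (finiteType_fiber u (h t)).1
  haveI := (finiteType_fiber u (h t)).2
  exact (hP _ _ i _ hi).symm

theorem mem_locusPair_iff {P : ∀ ⦃X Y T : Scheme.{u}⦄, (X ⟶ T) → (Y ⟶ T) → Prop}
    (hP : ConsPropPair.IsFieldStablePair P) {u : X ⟶ S} {v : Y ⟶ S}
    [LocallyOfFiniteType u] [QuasiCompact u] [LocallyOfFiniteType v] [QuasiCompact v]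
    {u' : X' ⟶ T} {v' : Y' ⟶ T} {qX : X' ⟶ X} {qY : Y' ⟶ Y} {h : T ⟶ S}
    (hX : IsPullback qX u' u h) (hY : IsPullback qY v' v h) (t : T) :
    t ∈ ConsPropPair.locusPair P u' v' ↔ h t ∈ ConsPropPair.locusPair P u v := by
  obtain ⟨i, -, hi⟩ := FibreBC.exists_isPullback_fiber hX t
  obtain ⟨i', -, hi'⟩ := FibreBC.exists_isPullback_fiber hY t
  haveI := (finiteType_fiber u (h t)).1
  haveI := (finiteType_fiber u (h t)).2
  haveI := (finiteType_fiber v (h t)).1
  haveI := (finiteType_fiber v (h t)).2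
  exact (hP _ _ _ _ i i' _ hi hi').symm

theorem mem_locusMor_iff {P : ∀ ⦃X Y T : Scheme.{u}⦄, (X ⟶ Y) → (Y ⟶ T) → Prop}
    (hP : ConsProp.IsFieldStableMor P) {f : X ⟶ Y} {g : Y ⟶ S}
    [LocallyOfFiniteType g] [QuasiCompact g] [LocallyOfFiniteType (f ≫ g)] [QuasiCompact (f ≫ g)]
    {f' : X' ⟶ Y'} {g' : Y' ⟶ T} {qX : X' ⟶ X} {qY : Y' ⟶ Y} {h : T ⟶ S}
    (hY : IsPullback qY g' g h) (hX : IsPullback qX f' f qY) (t : T) :
    t ∈ ConsProp.locusMor P f' g' ↔ h t ∈ ConsProp.locusMor P f g := by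
  obtain ⟨iY, hiY, hY'⟩ := FibreBC.exists_isPullback_fiber hY t
  have h1 : IsPullback ((f' ≫ g').fiberι t ≫ qX) (MoreMor.fiberMap f' g' t) f (g'.fiberι t ≫ qY) :=
    (isPullback_fiberMap f' g' t).paste_horiz hX
  rw [← hiY] at h1
  obtain ⟨iX, hiX₁, hiX₂⟩ : ∃ iX : (f' ≫ g').fiber t ⟶ (f ≫ g).fiber (h t),
      iX ≫ (f ≫ g).fiberι (h t) = (f' ≫ g').fiberι t ≫ qX ∧
      iX ≫ MoreMor.fiberMap f g (h t) = MoreMor.fiberMap f' g' t ≫ iY := by
    obtain ⟨l, hl₁, hl₂⟩ := (isPullback_fiberMap f g (h t)).exists_lift ((f' ≫ g').fiberι t ≫ qX)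
      (MoreMor.fiberMap f' g' t ≫ iY) (by rw [h1.w, Category.assoc])
    exact ⟨l, hl₁, hl₂⟩
  have h2 : IsPullback iX (MoreMor.fiberMap f' g' t) (MoreMor.fiberMap f g (h t)) iY := by
    refine IsPullback.of_right ?_ hiX₂ (isPullback_fiberMap f g (h t))
    rw [hiX₁]
    exact h1
  haveI := (finiteType_fiber g (h t)).1
  haveI := (finiteType_fiber g (h t)).2
  have e : MoreMor.fiberMap f g (h t) ≫ g.fiberToSpecResidueField (h t) =
      (f ≫ g).fiberToSpecResidueField (h t) := pullback.lift_snd _ _ _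
  haveI : LocallyOfFiniteType (MoreMor.fiberMap f g (h t) ≫ g.fiberToSpecResidueField (h t)) := by
    rw [e]; exact (finiteType_fiber (f ≫ g) (h t)).1
  haveI : QuasiCompact (MoreMor.fiberMap f g (h t) ≫ g.fiberToSpecResidueField (h t)) := by
    rw [e]; exact (finiteType_fiber (f ≫ g) (h t)).2
  exact (hP _ _ _ _ iX iY _ hY' h2).symm

theorem mem_locusMod_iff {P : ∀ ⦃Y T : Scheme.{u}⦄, (Y ⟶ T) → Y.Modules → Prop}
    (hP : ConsProp.IsFieldStableMod P) {u : X ⟶ S} [LocallyOfFiniteType u] [QuasiCompact u]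
    {u' : X' ⟶ T} {q : X' ⟶ X} {h : T ⟶ S} (hX : IsPullback q u' u h)
    (F : X.Modules) [F.IsQuasicoherent] (hF : CohB1.IsFT F) {F' : X'.Modules}
    (e : F' ≅ (Scheme.Modules.pullback q).obj F) (t : T) :
    t ∈ ConsProp.locusMod P u' F' ↔ h t ∈ ConsProp.locusMod P u F := by
  obtain ⟨i, hi₁, hi⟩ := FibreBC.exists_isPullback_fiber hX t
  haveI := (finiteType_fiber u (h t)).1
  haveI := (finiteType_fiber u (h t)).2
  have hcoh : Coh.IsCoh ((Scheme.Modules.pullback (u.fiberι (h t))).obj F) :=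
    ⟨FittSheaf.isQuasicoherent_pullback _ F, StrictTr.isFT_pullback hF⟩
  have d : (Scheme.Modules.pullback (u'.fiberι t)).obj F' ≅
      (Scheme.Modules.pullback i).obj ((Scheme.Modules.pullback (u.fiberι (h t))).obj F) :=
    (Scheme.Modules.pullback (u'.fiberι t)).mapIso e ≪≫ (Scheme.Modules.pullbackComp _ _).app F ≪≫
      (Scheme.Modules.pullbackCongr hi₁.symm).app F ≪≫ ((Scheme.Modules.pullbackComp _ _).app F).symm
  exact (hP _ _ i _ hi _ _ hcoh d).symm

end GrothLib.ConsLim
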