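import Groth.Agent.Lib.ConsLim.LimTop2
import Groth.Agent.Lib.LimDesc.Inj

/-!
# Limits along topological embeddings of Noetherian spaces
-/

set_option autoImplicit false
set_option backward.isDefEq.respectTransparency false
universe u

open CategoryTheory Limits AlgebraicGeometry Topology TopologicalSpace Set

namespace GrothLib.ConsLim

variable {I : Type u} [SmallCategory I] [IsCofiltered I] {D : I ⥤ Scheme.{u}} {c : Cone D}
  [∀ (i j : I) (f : i ⟶ j), IsAffineHom (D.map f)] (hc : IsLimit c)

include hc in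
/-- Along embeddings of Noetherian spaces the projections are eventually dominant. -/
theorem exists_stage_denseRange (he : ∀ (i j : I) (φ : i ⟶ j), IsEmbedding (D.map φ)) (i₀ : I)
    [NoetherianSpace (D.obj i₀)] :
    ∃ (i : I) (_ : i ⟶ i₀), ∀ (j : I) (_ : j ⟶ i), DenseRange (c.π.app j) := by
  let K := closure (range (c.π.app i₀))
  have hKo : IsOpen Kᶜ := isClosed_closure.isOpen_compl
  have hKc : IsConstructible Kᶜ :=
    (IsRetrocompact.isConstructible hKo fun U _ hU => NoetherianSpace.isCompact _)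
  obtain ⟨i, φ, hi⟩ := LimDesc.exists_preimage_eq_empty D c hc i₀ Kᶜ hKc (by
    rw [preimage_compl, compl_empty_iff]
    exact eq_univ_of_forall fun x => subset_closure ⟨x, rfl⟩)
  refine ⟨i, φ, fun j ψ y => ?_⟩
  rw [(he j i₀ (ψ ≫ φ)).isInducing.closure_eq_preimage_closure_image, mem_preimage]
  have h1 : D.map (ψ ≫ φ) '' range (c.π.app j) = range (c.π.app i₀) := by
    rw [← range_comp]
    exact congrArg range (funext fun x => by
      show D.map (ψ ≫ φ) (c.π.app j x) = _
      rw [← Scheme.Hom.comp_apply, c.w]; rfl)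
  rw [h1]
  by_contra hy
  rw [D.map_comp, Scheme.Hom.comp_apply] at hy
  exact Set.eq_empty_iff_forall_notMem.mp hi (D.map ψ y) hy

include hc in
/-- Reindex a statement about a dominant system to an embedded system. -/
theorem exists_stage_of_dominant (he : ∀ (i j : I) (φ : i ⟶ j), IsEmbedding (D.map φ)) (i₀ : I)
    [NoetherianSpace (D.obj i₀)] (P : ∀ j : I, (c.pt ⟶ D.obj j) → Prop)
    (H : ∀ (i : I) (_ : i ⟶ i₀),
      (∀ (a b : Over i) (f : a ⟶ b), IsDominant ((Over.forget i ⋙ D).map f)) →
      ∃ (k : Over i) (_ : k ⟶ Over.mk (𝟙 i)), ∀ (l : Over i) (_ : l ⟶ k), P l.left (c.π.app l.left)) :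
    ∃ (i : I) (_ : i ⟶ i₀), ∀ (j : I) (_ : j ⟶ i), P j (c.π.app j) := by
  obtain ⟨i, φ, hi⟩ := exists_stage_denseRange hc he i₀
  have hdom : ∀ (a b : Over i) (f : a ⟶ b), IsDominant ((Over.forget i ⋙ D).map f) := fun a b f => ⟨by
    have h := hi b.left b.hom
    rw [← c.w f.left] at h
    exact h.mono (by rintro _ ⟨x, rfl⟩; exact ⟨c.π.app a.left x, rfl⟩)⟩
  obtain ⟨k, -, hk⟩ := H i φ hdom
  exact ⟨k.left, k.hom ≫ φ, fun j ψ => hk (Over.mk (ψ ≫ k.hom)) (Over.homMk ψ)⟩

include hc in
theorem exists_stage_bijOn_irreducibleComponents_of_embedding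
    (he : ∀ (i j : I) (φ : i ⟶ j), IsEmbedding (D.map φ)) (i₀ : I) [NoetherianSpace (D.obj i₀)]
    [NoetherianSpace c.pt] :
    ∃ (i : I) (_ : i ⟶ i₀), ∀ (j : I) (_ : j ⟶ i),
      BijOn (fun C : Set c.pt => closure (c.π.app j '' C)) (irreducibleComponents c.pt)
        (irreducibleComponents (D.obj j)) :=
  exists_stage_of_dominant hc he i₀
    (fun j p => BijOn (fun C : Set c.pt => closure (p '' C)) (irreducibleComponents c.pt)
      (irreducibleComponents (D.obj j))) fun i φ hd => by
    haveI : ∀ (a b : Over i) (f : a ⟶ b), IsAffineHom ((Over.forget i ⋙ D).map f) :=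
      fun a b f => inferInstanceAs (IsAffineHom (D.map f.left))
    haveI : NoetherianSpace (c.whisker (Over.forget i)).pt := ‹NoetherianSpace c.pt›
    exact exists_stage_bijOn_irreducibleComponents
      ((Functor.Initial.isLimitWhiskerEquiv (Over.forget i) c).symm hc) hd (Over.mk (𝟙 i))

include hc in
theorem exists_stage_bijOn_connectedComponents_of_embedding
    (he : ∀ (i j : I) (φ : i ⟶ j), IsEmbedding (D.map φ)) (i₀ : I) [NoetherianSpace (D.obj i₀)]
    [NoetherianSpace c.pt] :
    ∃ (i : I) (_ : i ⟶ i₀), ∀ (j : I) (_ : j ⟶ i),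
      BijOn (fun C : Set c.pt => closure (c.π.app j '' C))
        (range (connectedComponent : c.pt → Set c.pt))
        (range (connectedComponent : D.obj j → Set (D.obj j))) :=
  exists_stage_of_dominant hc he i₀
    (fun j p => BijOn (fun C : Set c.pt => closure (p '' C))
      (range (connectedComponent : c.pt → Set c.pt))
      (range (connectedComponent : D.obj j → Set (D.obj j)))) fun i φ hd => by
    haveI : ∀ (a b : Over i) (f : a ⟶ b), IsAffineHom ((Over.forget i ⋙ D).map f) :=
      fun a b f => inferInstanceAs (IsAffineHom (D.map f.left))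
    haveI : NoetherianSpace (c.whisker (Over.forget i)).pt := ‹NoetherianSpace c.pt›
    haveI : CompactSpace ((Over.forget i ⋙ D).obj (Over.mk (𝟙 i))) := compactSpace_stage D φ
    exact exists_stage_bijOn_connectedComponents
      ((Functor.Initial.isLimitWhiskerEquiv (Over.forget i) c).symm hc) hd (Over.mk (𝟙 i))

end GrothLib.ConsLim
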