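import Groth.Agent.Lib.ConsLim.LimTop
import Groth.Agent.Lib.LimStage.Points
import Groth.Agent.Lib.Unibranch.Points
import Mathlib.CategoryTheory.CofilteredSystem

/-!
# Maximal points of a limit
-/

set_option autoImplicit false
set_option backward.isDefEq.respectTransparency false
universe u

open CategoryTheory Limits AlgebraicGeometry Topology TopologicalSpace Set

namespace GrothLib.ConsLim

/-- A point without proper generizations. -/
abbrev IsMaxPt {X : Scheme.{u}} (s : X) : Prop := ∀ z : X, z ⤳ s → z = s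

/-- An open set containing all maximal points is dense. -/
theorem dense_of_maxPt_mem {X : Scheme.{u}} {V : Set X} (h : ∀ s : X, IsMaxPt s → s ∈ V) : Dense V := by
  intro x
  obtain ⟨ζ, hζx, hζ⟩ := Unibranch.exists_maximal_generization x
  exact hζx.mem_closed isClosed_closure (subset_closure (h ζ hζ))

/-- With finitely many maximal points, a dense open contains all of them. -/
theorem mem_of_dense_of_finite_maxPt {X : Scheme.{u}} (hfin : {s : X | IsMaxPt s}.Finite)
    {V : Set X} (hV : IsOpen V) (hd : Dense V) {s : X} (hs : IsMaxPt s) : s ∈ V := by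
  have hU : IsOpen (⋃ t ∈ {t : X | IsMaxPt t ∧ t ≠ s}, closure {t})ᶜ :=
    ((hfin.subset fun t ht => ht.1).isClosed_biUnion fun t _ => isClosed_closure).isOpen_compl
  obtain ⟨y, hyV, hy⟩ := hd.exists_mem_open hU (⟨s, fun hs' => by
    obtain ⟨t, ht, hts⟩ := mem_iUnion₂.mp hs'
    exact ht.2 (hs t (specializes_iff_mem_closure.mpr hts))⟩)
  obtain ⟨ζ, hζy, hζ⟩ := Unibranch.exists_maximal_generization y
  have : ζ = s := by
    by_contra hne
    exact hy (mem_iUnion₂.mpr ⟨ζ, ⟨hζ, hne⟩, specializes_iff_mem_closure.mp hζy⟩)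
  subst this
  exact hζy.mem_open hV hyV

variable {I : Type u} [SmallCategory I] [IsCofiltered I] (D : I ⥤ Scheme.{u}) (c : Cone D)
  [∀ (i j : I) (f : i ⟶ j), IsAffineHom (D.map f)] (hc : IsLimit c)

include hc in
/-- Specialization in the limit is detected at the stages. -/
theorem specializes_of_forall_π {x y : c.pt} (h : ∀ i, c.π.app i x ⤳ c.π.app i y) : x ⤳ y :=
  specializes_iff_forall_open.mpr fun U hU hy => by
    obtain ⟨i, V, hV, hyV, hsub⟩ := LimStage.isInducing_π D c hc U hU y hy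
    exact hsub ((h i).mem_open hV hyV)

include hc in
theorem isMaxPt_iff_forall_π (hfin : ∀ i : I, {s : D.obj i | IsMaxPt s}.Finite)
    (hsys : ∀ (i j : I) (g : i ⟶ j) (s : D.obj i), IsMaxPt s → IsMaxPt (D.map g s)) (s : c.pt) :
    IsMaxPt s ↔ ∀ i : I, IsMaxPt (X := D.obj i) (c.π.app i s) := by
  refine ⟨fun hs i => ?_, fun h z hz => ?_⟩
  · let M : I ⥤ Type u :=
      { obj := fun j => {t : D.obj j // IsMaxPt t ∧ t ⤳ c.π.app j s}
        map := fun {j k} g => TypeCat.ofHom fun t => ⟨D.map g t.1, hsys j k g t.1 t.2.1, by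
          have h := t.2.2.map (D.map g).continuous
          rwa [← Scheme.Hom.comp_apply, c.w] at h⟩
        map_id := fun j => by ext t; simp
        map_comp := fun g g' => by ext t; simp }
    haveI : ∀ j, Finite (M.obj j) := fun j =>
      ((hfin j).subset fun t (ht : IsMaxPt t ∧ t ⤳ c.π.app j s) => ht.1).to_subtype
    haveI : ∀ j, Nonempty (M.obj j) := fun j => by
      obtain ⟨ζ, h1, h2⟩ := Unibranch.exists_maximal_generization (c.π.app j s)
      exact ⟨⟨ζ, h2, h1⟩⟩
    obtain ⟨t, ht⟩ := nonempty_sections_of_finite_cofiltered_system M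
    obtain ⟨x, hx⟩ := LimStage.exists_π_eq D c hc (fun j => (t j).1)
      (fun {j k} g => congrArg Subtype.val (ht g))
    have hxs : x = s := hs x (specializes_of_forall_π D c hc fun j => by rw [hx j]; exact (t j).2.2)
    rw [← hxs, hx i]
    exact (t i).2.1
  · exact LimStage.eq_of_forall_π_eq D c hc fun i => h i _ (hz.map (c.π.app i).continuous)

include hc in
theorem dense_preimage_iff (hfin : ∀ i : I, {s : D.obj i | IsMaxPt s}.Finite)
    (hsys : ∀ (i j : I) (g : i ⟶ j) (s : D.obj i), IsMaxPt s → IsMaxPt (D.map g s))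
    (i₀ : I) (V₀ : (D.obj i₀).Opens) :
    (Dense (V₀ : Set (D.obj i₀)) →
        (∀ (i : I) (g : i ⟶ i₀), Dense ((D.map g ⁻¹ᵁ V₀ : (D.obj i).Opens) : Set (D.obj i))) ∧
          Dense ((c.π.app i₀ ⁻¹ᵁ V₀ : c.pt.Opens) : Set c.pt)) ∧
      (Dense ((c.π.app i₀ ⁻¹ᵁ V₀ : c.pt.Opens) : Set c.pt) → {s : c.pt | IsMaxPt s}.Finite →
          ∃ (i : I) (g : i ⟶ i₀), Dense ((D.map g ⁻¹ᵁ V₀ : (D.obj i).Opens) : Set (D.obj i))) := by
  refine ⟨fun hd => ⟨fun i g => ?_, ?_⟩, fun hd hfin' => ?_⟩
  · exact dense_of_maxPt_mem fun s hs =>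
      mem_of_dense_of_finite_maxPt (hfin i₀) V₀.2 hd (hsys i i₀ g s hs)
  · exact dense_of_maxPt_mem fun s hs =>
      mem_of_dense_of_finite_maxPt (hfin i₀) V₀.2 hd ((isMaxPt_iff_forall_π D c hc hfin hsys s).mp hs i₀)
  · by_contra hno
    push Not at hno
    let B : Over i₀ ⥤ Type u :=
      { obj := fun j => {t : D.obj j.left // IsMaxPt t ∧ D.map j.hom t ∉ V₀}
        map := fun {j k} g => TypeCat.ofHom fun t => ⟨D.map g.left t.1, hsys _ _ g.left t.1 t.2.1, by
          rw [← Scheme.Hom.comp_apply, ← D.map_comp, Over.w g]; exact t.2.2⟩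
        map_id := fun j => by ext t; simp
        map_comp := fun g g' => by ext t; simp }
    haveI : ∀ j, Finite (B.obj j) := fun j =>
      ((hfin j.left).subset fun t (ht : IsMaxPt t ∧ D.map j.hom t ∉ V₀) => ht.1).to_subtype
    haveI : ∀ j, Nonempty (B.obj j) := fun j => by
      by_contra hne
      exact hno j.left j.hom (dense_of_maxPt_mem fun t ht => not_not.mp fun hn => hne ⟨⟨t, ht, hn⟩⟩)
    obtain ⟨t, ht⟩ := nonempty_sections_of_finite_cofiltered_system B
    haveI : ∀ (a b : Over i₀) (f : a ⟶ b), IsAffineHom ((Over.forget i₀ ⋙ D).map f) :=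
      fun a b f => inferInstanceAs (IsAffineHom (D.map f.left))
    let hc' := (Functor.Initial.isLimitWhiskerEquiv (Over.forget i₀) c).symm hc
    obtain ⟨x, hx⟩ := LimStage.exists_π_eq (Over.forget i₀ ⋙ D) (c.whisker (Over.forget i₀)) hc'
      (fun j => (t j).1) (fun {j k} g => congrArg Subtype.val (ht g))
    have hmax : IsMaxPt (X := c.pt) x := (isMaxPt_iff_forall_π (Over.forget i₀ ⋙ D)
      (c.whisker (Over.forget i₀)) hc' (fun j => hfin j.left) (fun j k g => hsys _ _ g.left) x).mpr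
      fun j => by rw [hx j]; exact (t j).2.1
    have h1 := mem_of_dense_of_finite_maxPt hfin' (Opens.isOpen _) hd hmax
    refine (t (Over.mk (𝟙 i₀))).2.2 ?_
    rw [← hx (Over.mk (𝟙 i₀))]
    show D.map (𝟙 i₀) (c.π.app i₀ x) ∈ V₀
    rw [← Scheme.Hom.comp_apply, c.w]
    exact h1

end GrothLib.ConsLim
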