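import Groth.Agent.Lib.ConsLim.LimFlat
import Groth.Agent.Lib.ConsLim.LimEmb

/-!
# Reduced and integral limits along open immersions
-/

set_option autoImplicit false
set_option backward.isDefEq.respectTransparency false
universe u

open CategoryTheory Limits AlgebraicGeometry Topology TopologicalSpace

namespace GrothLib.ConsLim

/-- Near a point with reduced local ring a scheme with finitely generated nilradicals has reduced
local rings. -/
theorem exists_open_reduced_stalks {X : Scheme.{u}}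
    (hN : ∀ U : X.affineOpens, (nilradical Γ(X, U)).FG) (x : X)
    (hx : _root_.IsReduced (X.presheaf.stalk x)) :
    ∃ V : X.Opens, x ∈ V ∧ ∀ y ∈ V, _root_.IsReduced (X.presheaf.stalk y) := by
  classical
  obtain ⟨U, hU, hxU, -⟩ := exists_isAffineOpen_mem_and_subset (Opens.mem_top x)
  obtain ⟨T, hT⟩ := hN ⟨U, hU⟩
  letI := TopCat.Presheaf.algebra_section_stalk X.presheaf (⟨x, hxU⟩ : U)
  haveI := hU.isLocalization_stalk ⟨x, hxU⟩
  have hk : ∀ g ∈ T, ∃ s : (hU.primeIdealOf ⟨x, hxU⟩).asIdeal.primeCompl, s.1 * g = 0 := fun g hg => by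
    have hn : IsNilpotent g := mem_nilradical.mp (hT ▸ Ideal.subset_span hg)
    exact (IsLocalization.map_eq_zero_iff (hU.primeIdealOf ⟨x, hxU⟩).asIdeal.primeCompl
      (X.presheaf.stalk x) g).mp (IsNilpotent.eq_zero (hn.map _))
  choose! s hs using hk
  let S := ∏ g ∈ T, s g
  have hS : ∀ g : Γ(X, U), IsNilpotent g → S.1 * g = 0 := by
    intro g hg
    have hle : nilradical Γ(X, U) ≤ (⊥ : Ideal Γ(X, U)).colon {S.1} := by
      rw [← hT, Ideal.span_le]
      intro t ht
      rw [SetLike.mem_coe, Submodule.mem_colon_singleton, Submodule.mem_bot, smul_eq_mul, mul_comm]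
      obtain ⟨r, hr⟩ := Finset.dvd_prod_of_mem s ht
      show S.1 * t = 0
      rw [show S.1 = (s t).1 * r.1 from congrArg Subtype.val hr, mul_right_comm, hs t ht, zero_mul]
    have := hle (mem_nilradical.mpr hg)
    rwa [Submodule.mem_colon_singleton, Submodule.mem_bot, smul_eq_mul, mul_comm] at this
  refine ⟨X.basicOpen S.1, ?_, fun y hy => ⟨fun a ha => ?_⟩⟩
  · rw [Scheme.mem_basicOpen _ _ _ hxU]
    exact IsLocalization.map_units (X.presheaf.stalk x) S
  · have hyU : y ∈ U := X.basicOpen_le _ hy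
    letI := TopCat.Presheaf.algebra_section_stalk X.presheaf (⟨y, hyU⟩ : U)
    haveI := hU.isLocalization_stalk ⟨y, hyU⟩
    obtain ⟨⟨g, t⟩, hgt⟩ := IsLocalization.surj (hU.primeIdealOf ⟨y, hyU⟩).asIdeal.primeCompl a
    obtain ⟨n, hn⟩ := ha
    have h0 : algebraMap Γ(X, U) (X.presheaf.stalk y) (g ^ n) = 0 := by
      rw [map_pow, ← hgt, mul_pow, hn, zero_mul]
    obtain ⟨r, hr⟩ := (IsLocalization.map_eq_zero_iff (hU.primeIdealOf ⟨y, hyU⟩).asIdeal.primeCompl
      (X.presheaf.stalk y) _).mp h0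
    have hnil : IsNilpotent (r.1 * g) := by
      refine ⟨n + 1, ?_⟩
      rw [mul_pow, pow_succ, pow_succ, show r.1 ^ n * r.1 * (g ^ n * g) = r.1 ^ n * g * (r.1 * g ^ n) by ring,
        hr, mul_zero]
    have h1 := congrArg (algebraMap Γ(X, U) (X.presheaf.stalk y)) (hS _ hnil)
    rw [map_mul, map_mul, map_zero] at h1
    have hu : IsUnit (algebraMap Γ(X, U) (X.presheaf.stalk y) S.1) :=
      (Scheme.mem_basicOpen X S.1 y hyU).mp hy
    rw [hu.mul_right_eq_zero, (IsLocalization.map_units _ r).mul_right_eq_zero, ← hgt,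
      (IsLocalization.map_units _ t).mul_left_eq_zero] at h1
    exact h1

variable {I : Type u} [SmallCategory I] [IsCofiltered I] {D : I ⥤ Scheme.{u}} {c : Cone D}
  [∀ (i j : I) (f : i ⟶ j), IsAffineHom (D.map f)] (hc : IsLimit c)

include hc in
/-- Along open immersions the limit is reduced iff the stages eventually are. -/
theorem isReduced_limit_iff_of_openImmersion (hoi : ∀ (i j : I) (φ : i ⟶ j), IsOpenImmersion (D.map φ))
    (i₀ : I) [CompactSpace (D.obj i₀)]
    (hN : ∀ U : (D.obj i₀).affineOpens, (nilradical Γ(D.obj i₀, U)).FG) :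
    IsReduced c.pt ↔ ∃ (i : I) (_ : i ⟶ i₀), ∀ (j : I) (_ : j ⟶ i), IsReduced (D.obj j) := by
  refine ⟨fun h => ?_, fun ⟨i, _, hi⟩ => ?_⟩
  · have hpt : ∀ z : c.pt, ∃ V : (D.obj i₀).Opens, pr c i₀ z ∈ V ∧
        ∀ y ∈ V, _root_.IsReduced ((D.obj i₀).presheaf.stalk y) := fun z => by
      haveI := isIso_stalkMap_π hc hoi i₀ z
      exact exists_open_reduced_stalks hN _ (isReduced_of_injective ((pr c i₀).stalkMap z).hom
        (ConcreteCategory.bijective_of_isIso ((pr c i₀).stalkMap z)).1)
    choose V hV hVr using hpt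
    let W : (D.obj i₀).Opens := ⨆ z, V z
    have hW : c.π.app i₀ ⁻¹' (W : Set (D.obj i₀)) = Set.univ :=
      Set.eq_univ_of_forall fun z => (Opens.mem_iSup.mpr ⟨z, hV z⟩ : pr c i₀ z ∈ ⨆ z, V z)
    obtain ⟨i, φ, hi⟩ := exists_stage_eq_top D c hc i₀ W.isOpen hW
    refine ⟨i, φ, fun j ψ => ?_⟩
    haveI := hoi j i₀ (ψ ≫ φ)
    have : ∀ y : D.obj j, _root_.IsReduced ((D.obj j).presheaf.stalk y) := fun y => by
      have hy : D.map ψ y ∈ D.map φ ⁻¹' (W : Set (D.obj i₀)) := by
        rw [hi]; trivial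
      rw [Set.mem_preimage, SetLike.mem_coe, ← Scheme.Hom.comp_apply, ← D.map_comp] at hy
      obtain ⟨z, hz⟩ := Opens.mem_iSup.mp hy
      haveI := hVr z _ hz
      exact isReduced_of_injective (inv ((D.map (ψ ≫ φ)).stalkMap y)).hom
        (ConcreteCategory.bijective_of_isIso (inv ((D.map (ψ ≫ φ)).stalkMap y))).1
    exact isReduced_of_isReduced_stalk _
  · haveI := hi i (𝟙 i)
    have : ∀ z : c.pt, _root_.IsReduced (c.pt.presheaf.stalk z) := fun z => by
      haveI := isIso_stalkMap_π hc hoi i z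
      exact isReduced_of_injective (inv ((pr c i).stalkMap z)).hom
        (ConcreteCategory.bijective_of_isIso (inv ((pr c i).stalkMap z))).1
    exact isReduced_of_isReduced_stalk _

include hc in
/-- Along open immersions of Noetherian schemes the limit is integral iff the stages eventually are. -/
theorem isIntegral_limit_iff_of_openImmersion (hoi : ∀ (i j : I) (φ : i ⟶ j), IsOpenImmersion (D.map φ))
    (i₀ : I) [IsNoetherian (D.obj i₀)] :
    IsIntegral c.pt ↔ ∃ (i : I) (_ : i ⟶ i₀), ∀ (j : I) (_ : j ⟶ i), IsIntegral (D.obj j) := by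
  have hN : ∀ U : (D.obj i₀).affineOpens, (nilradical Γ(D.obj i₀, U)).FG := fun U => by
    haveI := IsLocallyNoetherian.component_noetherian U
    exact IsNoetherian.noetherian _
  refine ⟨fun h => ?_, fun ⟨i, φ, hi⟩ => ?_⟩
  · obtain ⟨a, φa, ha⟩ := (isReduced_limit_iff_of_openImmersion hc hoi i₀ hN).mp inferInstance
    obtain ⟨b, φb, hb⟩ := exists_stage_denseRange hc
      (fun i j φ => (haveI := hoi i j φ; (D.map φ).isOpenEmbedding.isEmbedding)) i₀
    let k := IsCofiltered.min a b
    refine ⟨k, IsCofiltered.minToLeft a b ≫ φa, fun j ψ => ?_⟩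
    haveI := ha j (ψ ≫ IsCofiltered.minToLeft a b)
    have hd := hb j (ψ ≫ IsCofiltered.minToRight a b)
    have h1 := ((IrreducibleSpace.isIrreducible_univ c.pt).image (c.π.app j)
      (Scheme.Hom.continuous _).continuousOn).closure
    rw [Set.image_univ, hd.closure_range] at h1
    haveI : IrreducibleSpace (D.obj j) := (irreducibleSpace_def (D.obj j)).mpr h1
    exact isIntegral_of_irreducibleSpace_of_isReduced _
  · haveI := (isReduced_limit_iff_of_openImmersion hc hoi i₀ hN).mpr
      ⟨i, φ, fun j ψ => (haveI := hi j ψ; inferInstance)⟩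
    haveI := compactSpace_stage D φ
    haveI : ∀ (a b : Over i) (f : a ⟶ b), IsAffineHom ((Over.forget i ⋙ D).map f) :=
      fun a b f => inferInstanceAs (IsAffineHom (D.map f.left))
    have hd : ∀ (a b : Over i) (f : a ⟶ b), IsDominant ((Over.forget i ⋙ D).map f) := fun a b f => by
      haveI := hi a.left a.hom
      haveI := hi b.left b.hom
      haveI := hoi a.left b.left f.left
      exact ⟨((D.map f.left).isOpenEmbedding.isOpen_range).dense
        ⟨_, ⟨Nonempty.some inferInstance, rfl⟩⟩⟩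
    haveI : CompactSpace ((Over.forget i ⋙ D).obj (Over.mk (𝟙 i))) := compactSpace_stage D φ
    haveI : IrreducibleSpace (c.whisker (Over.forget i)).pt := (irreducibleSpace_limit_iff
      ((Functor.Initial.isLimitWhiskerEquiv (Over.forget i) c).symm hc) hd (Over.mk (𝟙 i))).mpr
      ⟨Over.mk (𝟙 i), 𝟙 _, fun a f => (haveI := hi a.left a.hom; inferInstanceAs (IrreducibleSpace (D.obj a.left)))⟩
    haveI : IrreducibleSpace c.pt := ‹IrreducibleSpace (c.whisker (Over.forget i)).pt›
    exact isIntegral_of_irreducibleSpace_of_isReduced _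

end GrothLib.ConsLim
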