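import Groth.Agent.Lib.ConsLim.LimTop
import Mathlib.Topology.LocallyClosed

/-!
# Open, locally closed, irreducible and connected limits
-/

set_option autoImplicit false
set_option backward.isDefEq.respectTransparency false
set_option linter.style.haveILetI false
universe u

open CategoryTheory Limits AlgebraicGeometry Topology TopologicalSpace Set

namespace GrothLib.ConsLim

variable {I : Type u} [SmallCategory I] [IsCofiltered I] (D : I ⥤ Scheme.{u}) (c : Cone D)
  [∀ (i j : I) (f : i ⟶ j), IsAffineHom (D.map f)] (hc : IsLimit c)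

include hc in
theorem exists_stage_isOpen (i : I) [CompactSpace (D.obj i)] {Z : Set (D.obj i)}
    (hZ : IsLocallyConstructible Z) (h : IsOpen (c.π.app i ⁻¹' Z)) :
    ∃ (j : I) (φ : j ⟶ i), IsOpen (D.map φ ⁻¹' Z) := by
  classical
  haveI := compactSpace_limit D c hc i
  have hW : IsCompact (c.π.app i ⁻¹' Z) := isCompact_of_isProConstructible (X := c.pt)
    (Constr.isProConstructible_preimage _ (Constr.isProConstructible_of_isLocallyConstructible hZ))
  obtain ⟨k, ψ, s, hcov, hsub⟩ := exists_stage_nhd D c hc i hW h Subset.rfl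
  let Z' := D.map ψ ⁻¹' Z
  have hZ' : IsLocallyConstructible Z' := Constr.isLocallyConstructible_preimage _ hZ
  have hV : ∀ V : {V // V ∈ s}, ∃ j : Over k,
      D.map j.hom ⁻¹' (V.1.1 : Set (D.obj k)) ⊆ D.map j.hom ⁻¹' Z' := fun V => by
    obtain ⟨j, φ, hj⟩ := exists_stage_preimage_subset D c hc k V.1.1 V.1.2
      (Constr.isIndConstructible_of_isLocallyConstructible hZ')
      (by rw [π_preimage_map]; exact hsub V.1 V.2)
    exact ⟨Over.mk φ, hj⟩
  choose J hJ using hV
  obtain ⟨m, hm⟩ := IsCofiltered.inf_objs_exists (s.attach.image J)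
  let O : Set (D.obj m.left) := ⋃ V ∈ s, D.map m.hom ⁻¹' (V.1 : Set (D.obj k))
  have hO : IsOpen O := isOpen_biUnion fun V _ => V.1.2.preimage (Scheme.Hom.continuous _)
  have hOZ : O ⊆ D.map (m.hom ≫ ψ) ⁻¹' Z := fun y hy => by
    obtain ⟨V, hVs, hyV⟩ := mem_iUnion₂.mp hy
    obtain ⟨b⟩ := hm (Finset.mem_image_of_mem J (Finset.mem_attach s ⟨V, hVs⟩))
    have e : D.map m.hom y = D.map (J ⟨V, hVs⟩).hom (D.map b.left y) := by
      rw [← Scheme.Hom.comp_apply, ← D.map_comp, Over.w b]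
    have h2 : D.map b.left y ∈ D.map (J ⟨V, hVs⟩).hom ⁻¹' Z' :=
      hJ ⟨V, hVs⟩ (show D.map (J ⟨V, hVs⟩).hom (D.map b.left y) ∈ (V.1 : Set (D.obj k)) from e ▸ hyV)
    show D.map (m.hom ≫ ψ) y ∈ Z
    rw [D.map_comp, Scheme.Hom.comp_apply, e]
    exact h2
  haveI := compactSpace_stage D (m.hom ≫ ψ)
  have hE : ProCons.IsIndConstructible ((D.map (m.hom ≫ ψ) ⁻¹' Z)ᶜ ∪ O) := by
    have h1 := Constr.isIndConstructible_of_isLocallyConstructible
      (Constr.isLocallyConstructible_compl (Constr.isLocallyConstructible_preimage (D.map (m.hom ≫ ψ)) hZ))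
    refine Constr.isIndConstructible_of_forall_mem fun x _ => ?_
    obtain ⟨V, hV, hxV, -⟩ := Constr.exists_affine_nhd x isOpen_univ (mem_univ x)
    haveI := Constr.compactSpace_of_isAffineOpen hV
    haveI := Constr.quasiSeparatedSpace_of_isAffineOpen hV
    refine ⟨V, hxV, inferInstance, inferInstance, ?_⟩
    rw [preimage_union]
    exact @IsOpen.union _ _ _ (constructibleTopology (V : Set (D.obj m.left)))
      (Constr.isOpen_preimage_of_isIndConstructible h1 V)
      (Constr.isOpen_preimage_of_isIndConstructible (Constr.isIndConstructible_of_isOpen hO) V)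
  obtain ⟨j, φ, hj⟩ := exists_stage_forall_mem D c hc m.left hE (fun x => by
    by_cases hx : c.π.app m.left x ∈ D.map (m.hom ≫ ψ) ⁻¹' Z
    · refine Or.inr ?_
      have hxZ : x ∈ c.π.app i ⁻¹' Z := by rw [← π_preimage_map D c (m.hom ≫ ψ)]; exact hx
      obtain ⟨V, hVs, hxV⟩ := mem_iUnion₂.mp (hcov hxZ)
      rw [← π_preimage_map D c m.hom] at hxV
      exact mem_iUnion₂.mpr ⟨V, hVs, hxV⟩
    · exact Or.inl hx)
  refine ⟨j, φ ≫ m.hom ≫ ψ, ?_⟩
  have e : D.map (φ ≫ m.hom ≫ ψ) ⁻¹' Z = D.map φ ⁻¹' O := by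
    ext y
    rw [D.map_comp]
    refine ⟨fun hy => (hj y).resolve_left fun h' => h' hy, fun hy => hOZ hy⟩
  rw [e]
  exact hO.preimage (Scheme.Hom.continuous _)

include hc in
theorem exists_stage_isLocallyClosed (i : I) [CompactSpace (D.obj i)] {Z : Set (D.obj i)}
    (hZ : IsLocallyConstructible Z) (h : IsLocallyClosed (c.π.app i ⁻¹' Z)) :
    ∃ (j : I) (φ : j ⟶ i), IsLocallyClosed (D.map φ ⁻¹' Z) := by
  classical
  haveI := compactSpace_limit D c hc i
  have hW : IsCompact (c.π.app i ⁻¹' Z) := isCompact_of_isProConstructible (X := c.pt)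
    (Constr.isProConstructible_preimage _ (Constr.isProConstructible_of_isLocallyConstructible hZ))
  obtain ⟨U, C, hU, hC, hUC⟩ := h
  obtain ⟨k, ψ, s, hcov, hsub⟩ := exists_stage_nhd D c hc i hW hU (hUC ▸ inter_subset_left)
  let Z' := D.map ψ ⁻¹' Z
  have hZ' : IsLocallyConstructible Z' := Constr.isLocallyConstructible_preimage _ hZ
  have hV : ∀ V : {V // V ∈ s}, ∃ j : Over k,
      IsClosed ((D.map j.hom ⁻¹ᵁ V.1.1).ι ⁻¹' (D.map j.hom ⁻¹' Z')) := fun V => by
    let top : Over k := Over.mk (𝟙 k)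
    let E := opensDiagram D k V.1.1
    let cE := opensCone D c k V.1.1
    haveI : CompactSpace ↥(E.obj top) :=
      isCompact_iff_compactSpace.mp ((D.map top.hom).isCompact_preimage V.1.2.isCompact)
    have hlc : IsLocallyConstructible (((D.map top.hom ⁻¹ᵁ V.1.1).ι ⁻¹' (D.map top.hom ⁻¹' Z'))ᶜ) :=
      Constr.isLocallyConstructible_compl (Constr.isLocallyConstructible_preimage _
        (Constr.isLocallyConstructible_preimage _ hZ'))
    have hπ : ∀ x : cE.pt, ((cE.π.app top) x).1 = c.π.app k x.1 := fun x =>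
      Scheme.Hom.coe_resLE_apply _ _ x
    have hopen : IsOpen (cE.π.app top ⁻¹'
        ((D.map top.hom ⁻¹ᵁ V.1.1).ι ⁻¹' (D.map top.hom ⁻¹' Z'))ᶜ) := by
      have e : cE.π.app top ⁻¹' ((D.map top.hom ⁻¹ᵁ V.1.1).ι ⁻¹' (D.map top.hom ⁻¹' Z'))ᶜ =
          (Subtype.val : cE.pt → c.pt) ⁻¹' Cᶜ := by
        ext x
        show ¬ (D.map top.hom ((cE.π.app top x).1) ∈ Z') ↔ x.1 ∉ C
        refine not_congr ?_
        rw [hπ]
        show (c.π.app k ≫ D.map top.hom) x.1 ∈ Z' ↔ _
        rw [c.w]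
        have hiff : x.1 ∈ c.π.app i ⁻¹' Z ↔ x.1 ∈ C := by
          rw [hUC]; exact and_iff_right (hsub V.1 V.2 x.2)
        rw [← π_preimage_map D c ψ] at hiff
        exact hiff
      rw [e]
      exact hC.isOpen_compl.preimage continuous_subtype_val
    obtain ⟨j, φ, hj⟩ := exists_stage_isOpen E cE (isLimitOpensCone D c hc k V.1.1) top hlc hopen
    refine ⟨j, ⟨?_⟩⟩
    refine (congrArg IsOpen ?_).mpr hj
    refine Set.ext fun y => ?_
    have h1 : (E.map φ y).1 = D.map φ.left y.1 := Scheme.Hom.coe_resLE_apply _ _ _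
    have h3 : φ.left ≫ top.hom = j.hom := Over.w φ
    show ¬ (D.map j.hom y.1 ∈ Z') ↔ ¬ (D.map top.hom ((E.map φ y).1) ∈ Z')
    rw [h1, ← Scheme.Hom.comp_apply, ← D.map_comp, h3]
  choose J hJ using hV
  obtain ⟨m, hm⟩ := IsCofiltered.inf_objs_exists (s.attach.image J)
  let O : Set (D.obj m.left) := ⋃ V ∈ s, D.map m.hom ⁻¹' (V.1 : Set (D.obj k))
  have hO : IsOpen O := isOpen_biUnion fun V _ => V.1.2.preimage (Scheme.Hom.continuous _)
  let Zm := D.map (m.hom ≫ ψ) ⁻¹' Z
  haveI := compactSpace_stage D (m.hom ≫ ψ)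
  have hE : ProCons.IsIndConstructible (Zmᶜ ∪ O) := by
    have h1 : ProCons.IsIndConstructible Zmᶜ := Constr.isIndConstructible_of_isLocallyConstructible
      (Constr.isLocallyConstructible_compl (Constr.isLocallyConstructible_preimage (D.map (m.hom ≫ ψ)) hZ))
    refine Constr.isIndConstructible_of_forall_mem fun x _ => ?_
    obtain ⟨V, hV, hxV, -⟩ := Constr.exists_affine_nhd x isOpen_univ (mem_univ x)
    haveI := Constr.compactSpace_of_isAffineOpen hV
    haveI := Constr.quasiSeparatedSpace_of_isAffineOpen hV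
    refine ⟨V, hxV, inferInstance, inferInstance, ?_⟩
    rw [preimage_union]
    exact @IsOpen.union _ _ _ (constructibleTopology (V : Set (D.obj m.left)))
      (Constr.isOpen_preimage_of_isIndConstructible h1 V)
      (Constr.isOpen_preimage_of_isIndConstructible (Constr.isIndConstructible_of_isOpen hO) V)
  obtain ⟨j, φ, hj⟩ := exists_stage_forall_mem D c hc m.left hE (fun x => by
    by_cases hx : c.π.app m.left x ∈ Zm
    · refine Or.inr ?_
      have hxZ : x ∈ c.π.app i ⁻¹' Z := by rw [← π_preimage_map D c (m.hom ≫ ψ)]; exact hx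
      obtain ⟨V, hVs, hxV⟩ := mem_iUnion₂.mp (hcov hxZ)
      rw [← π_preimage_map D c m.hom] at hxV
      exact mem_iUnion₂.mpr ⟨V, hVs, hxV⟩
    · exact Or.inl hx)
  refine ⟨j, φ ≫ m.hom ≫ ψ, ?_⟩
  -- `Z` is closed in the union of the opens at stage `m`
  have hclosed : IsClosed ((Subtype.val : O → D.obj m.left) ⁻¹' Zm) := by
    rw [← isOpen_compl_iff, isOpen_iff_mem_nhds]
    rintro ⟨y, hy⟩ hyZ
    obtain ⟨V, hVs, hyV⟩ := mem_iUnion₂.mp hy
    obtain ⟨b⟩ := hm (Finset.mem_image_of_mem J (Finset.mem_attach s ⟨V, hVs⟩))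
    let Vj := D.map (J ⟨V, hVs⟩).hom ⁻¹ᵁ V.1
    have hcl := (hJ ⟨V, hVs⟩).isOpen_compl
    obtain ⟨G, hG, hGe⟩ := isOpen_induced_iff.mp hcl
    have e : ∀ w : D.obj m.left, D.map m.hom w = D.map (J ⟨V, hVs⟩).hom (D.map b.left w) := fun w => by
      rw [← Scheme.Hom.comp_apply, ← D.map_comp, Over.w b]
    have e' : ∀ (w : D.obj m.left) (hw : D.map b.left w ∈ Vj),
        D.map b.left w ∈ G ↔ w ∉ Zm := fun w hw => by
      have hiff := Set.ext_iff.mp hGe ⟨D.map b.left w, hw⟩
      refine hiff.trans (not_congr ?_)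
      show D.map (J ⟨V, hVs⟩).hom (D.map b.left w) ∈ Z' ↔ D.map (m.hom ≫ ψ) w ∈ Z
      rw [← e, D.map_comp, Scheme.Hom.comp_apply]
      rfl
    refine Filter.mem_of_superset ((((hG.inter Vj.2).preimage (Scheme.Hom.continuous (D.map b.left))).preimage
      continuous_subtype_val).mem_nhds (x := ⟨y, hy⟩) ?_) ?_
    · have hyVj : D.map b.left y ∈ Vj := by
        show D.map (J ⟨V, hVs⟩).hom (D.map b.left y) ∈ V.1
        rw [← e]; exact hyV
      exact ⟨(e' y hyVj).mpr hyZ, hyVj⟩
    · rintro ⟨w, hwO⟩ ⟨hwG, hwV⟩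
      exact (e' w hwV).mp hwG
  have hZm : IsLocallyClosed (Zm ∩ O) := by
    obtain ⟨G, hG, hGe⟩ := isClosed_induced_iff.mp hclosed
    refine ⟨O, G, hO, hG, ?_⟩
    ext y
    refine ⟨fun hy => ⟨hy.2, (Set.ext_iff.mp hGe ⟨y, hy.2⟩).mpr hy.1⟩,
      fun hy => ⟨(Set.ext_iff.mp hGe ⟨y, hy.1⟩).mp hy.2, hy.1⟩⟩
  have e : D.map (φ ≫ m.hom ≫ ψ) ⁻¹' Z = D.map φ ⁻¹' (Zm ∩ O) := by
    ext y
    rw [D.map_comp]
    refine ⟨fun hy => ⟨hy, (hj y).resolve_left fun h' => h' hy⟩, fun hy => hy.1⟩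
  rw [e]
  exact hZm.preimage (Scheme.Hom.continuous _)

variable {D c}

include hc in
/-- For dominant transition maps the projections are dominant. -/
theorem dense_range_π (hd : ∀ (i j : I) (φ : i ⟶ j), IsDominant (D.map φ)) (i : I) :
    DenseRange (c.π.app i) :=
  ((isDominant_π_iff D c hc i).mpr fun j φ => hd j i φ).denseRange

include hc in
theorem preimage_nonempty (hd : ∀ (i j : I) (φ : i ⟶ j), IsDominant (D.map φ)) {i : I}
    {V : Set (D.obj i)} (hV : IsOpen V) (hne : V.Nonempty) : (c.π.app i ⁻¹' V).Nonempty := by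
  obtain ⟨x, hx⟩ := (dense_range_π hc hd i).exists_mem_open hV hne
  exact ⟨x, hx⟩

include hc in
theorem irreducibleSpace_limit_iff (hd : ∀ (i j : I) (φ : i ⟶ j), IsDominant (D.map φ)) (i₀ : I)
    [CompactSpace (D.obj i₀)] :
    IrreducibleSpace c.pt ↔ ∃ (i : I) (_ : i ⟶ i₀), ∀ (j : I) (_ : j ⟶ i), IrreducibleSpace (D.obj j) := by
  constructor
  · intro h
    refine ⟨i₀, 𝟙 _, fun j _ => ?_⟩
    have h1 := ((IrreducibleSpace.isIrreducible_univ c.pt).image (c.π.app j)
      (Scheme.Hom.continuous _).continuousOn).closure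
    rw [image_univ, (dense_range_π hc hd j).closure_range] at h1
    exact (irreducibleSpace_def (D.obj j)).mpr h1
  · classical
    rintro ⟨i, ψ, hi⟩
    haveI := compactSpace_stage D ψ
    haveI : Nonempty c.pt := nonempty_limit D c hc i fun j φ => (hi j φ).toNonempty
    refine { isPreirreducible_univ := ?_, toNonempty := inferInstance }
    intro U V hU hV hU' hV'
    obtain ⟨x, -, hx⟩ := hU'
    obtain ⟨y, -, hy⟩ := hV'
    obtain ⟨OU, ⟨a, A, hA, rfl⟩, hxA, hAU⟩ := Opens.isBasis_iff_nbhd.mp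
      (isBasis_preimage_isAffineOpen D c hc) (U := ⟨U, hU⟩) hx
    obtain ⟨OV, ⟨b, B, hB, rfl⟩, hyB, hBV⟩ := Opens.isBasis_iff_nbhd.mp
      (isBasis_preimage_isAffineOpen D c hc) (U := ⟨V, hV⟩) hy
    obtain ⟨k, hk⟩ := IsCofiltered.inf_objs_exists ({i, a, b} : Finset I)
    obtain ⟨φi⟩ := hk (show i ∈ ({i, a, b} : Finset I) by simp)
    obtain ⟨φa⟩ := hk (show a ∈ ({i, a, b} : Finset I) by simp)
    obtain ⟨φb⟩ := hk (show b ∈ ({i, a, b} : Finset I) by simp)
    haveI := hi k φi
    have h1 : (D.map φa ⁻¹' (A : Set (D.obj a))).Nonempty :=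
      ⟨c.π.app k x, (Set.ext_iff.mp (π_preimage_map D c φa (A : Set (D.obj a))) x).mpr hxA⟩
    have h2 : (D.map φb ⁻¹' (B : Set (D.obj b))).Nonempty :=
      ⟨c.π.app k y, (Set.ext_iff.mp (π_preimage_map D c φb (B : Set (D.obj b))) y).mpr hyB⟩
    have hA' := A.2.preimage (Scheme.Hom.continuous (D.map φa))
    have hB' := B.2.preimage (Scheme.Hom.continuous (D.map φb))
    obtain ⟨z, hz⟩ := preimage_nonempty hc hd (hA'.inter hB')
      (nonempty_preirreducible_inter hA' hB' h1 h2)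
    rw [preimage_inter, π_preimage_map, π_preimage_map] at hz
    exact ⟨z, mem_univ _, hAU hz.1, hBV hz.2⟩

include hc in
theorem connectedSpace_limit_iff (hd : ∀ (i j : I) (φ : i ⟶ j), IsDominant (D.map φ)) (i₀ : I)
    [CompactSpace (D.obj i₀)] :
    ConnectedSpace c.pt ↔ ∃ (i : I) (_ : i ⟶ i₀), ∀ (j : I) (_ : j ⟶ i), ConnectedSpace (D.obj j) := by
  constructor
  · intro h
    refine ⟨i₀, 𝟙 _, fun j _ => connectedSpace_iff_univ.mpr ?_⟩
    have h1 := ((isConnected_univ (α := c.pt)).image (c.π.app j) (Scheme.Hom.continuous _).continuousOn).closure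
    rw [image_univ, (dense_range_π hc hd j).closure_range] at h1
    exact h1
  · rintro ⟨i, ψ, hi⟩
    haveI := compactSpace_stage D ψ
    haveI := compactSpace_limit D c hc i
    haveI : Nonempty c.pt := nonempty_limit D c hc i fun j φ => (hi j φ).toNonempty
    refine { isPreconnected_univ := ?_, toNonempty := inferInstance }
    refine (preconnectedSpace_iff_clopen.mpr fun W hW => ?_).isPreconnected_univ
    by_contra hne
    obtain ⟨h0, h1⟩ := not_or.mp hne
    obtain ⟨a, φa, A, hA, -, hAW⟩ := exists_open_preimage_eq D c hc i W hW.2 hW.1.isCompact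
    obtain ⟨b, φb, B, hB, -, hBW⟩ := exists_open_preimage_eq D c hc a Wᶜ hW.1.isOpen_compl hW.2.isClosed_compl.isCompact
    haveI := compactSpace_stage D φa
    haveI := compactSpace_stage D φb
    let A' := D.map φb ⁻¹' A
    have hA' : IsOpen A' := hA.preimage (Scheme.Hom.continuous _)
    have hA'W : c.π.app b ⁻¹' A' = W := by rw [π_preimage_map, hAW]
    obtain ⟨k, φ, hk⟩ := exists_stage_eq_top D c hc b (hA'.union hB)
      (by rw [preimage_union, hA'W, hBW, union_compl_self])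
    haveI := hi k (φ ≫ φb ≫ φa)
    let Ak := D.map φ ⁻¹' A'
    let Bk := D.map φ ⁻¹' B
    have hAk : IsOpen Ak := hA'.preimage (Scheme.Hom.continuous _)
    have hBk : IsOpen Bk := hB.preimage (Scheme.Hom.continuous _)
    have hAW' : c.π.app k ⁻¹' Ak = W := by rw [π_preimage_map, hA'W]
    have hBW' : c.π.app k ⁻¹' Bk = Wᶜ := by rw [π_preimage_map, hBW]
    have hdisj : Ak ∩ Bk = ∅ := by
      by_contra h'
      obtain ⟨z, hz⟩ := preimage_nonempty hc hd (hAk.inter hBk) (nonempty_iff_ne_empty.mpr h')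
      rw [preimage_inter, hAW', hBW'] at hz
      exact hz.2 hz.1
    obtain ⟨x, hx⟩ := nonempty_iff_ne_empty.mpr h0
    obtain ⟨y, hy⟩ := (Set.ne_univ_iff_exists_notMem _).mp h1
    have hxA : c.π.app k x ∈ Ak := (Set.ext_iff.mp hAW' x).mpr hx
    have hyB : c.π.app k y ∈ Bk := (Set.ext_iff.mp hBW' y).mpr hy
    obtain ⟨z, -, hz⟩ := PreconnectedSpace.isPreconnected_univ (α := D.obj k) Ak Bk hAk hBk
      (by rw [← preimage_union, hk]) ⟨_, mem_univ _, hxA⟩ ⟨_, mem_univ _, hyB⟩
    rw [hdisj] at hz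
    exact hz

omit hc in
theorem isClosed_sUnion_of_finite {X : Type u} [TopologicalSpace X] {S : Set (Set X)} (hS : S.Finite)
    (h : ∀ s ∈ S, IsClosed s) : IsClosed (⋃₀ S) := by
  rw [sUnion_eq_biUnion]
  exact hS.isClosed_biUnion h

omit hc in
theorem bijOn_irreducibleComponents_of_dense {X Y : Type u} [TopologicalSpace X] [TopologicalSpace Y]
    [NoetherianSpace X] {p : X → Y} (hp : Continuous p) (hd : DenseRange p)
    (h : ∀ C ∈ irreducibleComponents X, ∃ V : Set Y, IsOpen V ∧ (p ⁻¹' V).Nonempty ∧ p ⁻¹' V ⊆ C ∧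
      ∀ C' ∈ irreducibleComponents X, C' ≠ C → Disjoint (p ⁻¹' V) C') :
    BijOn (fun C : Set X => closure (p '' C)) (irreducibleComponents X) (irreducibleComponents Y) := by
  have hfin := NoetherianSpace.finite_irreducibleComponents (α := X)
  have hcov : ∀ T : Set Y, IsIrreducible T → ∃ C ∈ irreducibleComponents X, T ⊆ closure (p '' C) := by
    intro T hT
    have hu : univ ⊆ ⋃₀ ((fun C : Set X => closure (p '' C)) '' irreducibleComponents X) := by
      intro y _
      have h1 : closure (range p) ⊆ ⋃₀ ((fun C : Set X => closure (p '' C)) '' irreducibleComponents X) := by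
        refine closure_minimal ?_ (isClosed_sUnion_of_finite (hfin.image _) ?_)
        · rintro _ ⟨x, rfl⟩
          exact ⟨_, ⟨irreducibleComponent x, irreducibleComponent_mem_irreducibleComponents x, rfl⟩,
            subset_closure ⟨x, mem_irreducibleComponent, rfl⟩⟩
        · rintro _ ⟨C, -, rfl⟩; exact isClosed_closure
      exact h1 (hd y)
    obtain ⟨z, hz, hTz⟩ := (isIrreducible_iff_sUnion_isClosed.mp hT)
      (hfin.image (fun C : Set X => closure (p '' C))).toFinset
      (fun z hz => by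
        obtain ⟨C, -, rfl⟩ := (Set.Finite.mem_toFinset _).mp hz
        exact isClosed_closure)
      (by rw [Set.Finite.coe_toFinset]; exact (subset_univ T).trans hu)
    obtain ⟨C, hC, rfl⟩ := (Set.Finite.mem_toFinset _).mp hz
    exact ⟨C, hC, hTz⟩
  have hinc : ∀ C ∈ irreducibleComponents X, ∀ C' ∈ irreducibleComponents X,
      closure (p '' C) ⊆ closure (p '' C') → C = C' := by
    intro C hC C' hC' hle
    obtain ⟨V, hV, ⟨x, hx⟩, hVC, hdis⟩ := h C hC
    by_contra hne
    obtain ⟨y, hyV, x', hx', rfl⟩ := mem_closure_iff.mp (hle (subset_closure ⟨x, hVC hx, rfl⟩)) V hV hx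
    exact Set.disjoint_left.mp (hdis C' hC' (Ne.symm hne)) hyV hx'
  refine ⟨fun C hC => ?_, fun C hC C' hC' e => hinc C hC C' hC' (le_of_eq e), fun T hT => ?_⟩
  · refine ⟨(hC.1.image p hp.continuousOn).closure, fun T hT hle => ?_⟩
    obtain ⟨C', hC', hTC'⟩ := hcov T hT
    obtain rfl := hinc C hC C' hC' (le_trans hle hTC')
    exact hTC'
  · obtain ⟨C, hC, hTC⟩ := hcov T hT.1
    exact ⟨C, hC, (hT.2 (hC.1.image p hp.continuousOn).closure hTC).antisymm hTC⟩

include hc in
theorem exists_stage_bijOn_irreducibleComponents (hd : ∀ (i j : I) (φ : i ⟶ j), IsDominant (D.map φ))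
    (i₀ : I) [NoetherianSpace c.pt] :
    ∃ (i : I) (_ : i ⟶ i₀), ∀ (j : I) (_ : j ⟶ i),
      BijOn (fun C : Set c.pt => closure (c.π.app j '' C)) (irreducibleComponents c.pt)
        (irreducibleComponents (D.obj j)) := by
  classical
  have hfin := NoetherianSpace.finite_irreducibleComponents (α := c.pt)
  have hU : ∀ C : irreducibleComponents c.pt, ∃ (m : Over i₀) (V : Set (D.obj m.left)), IsOpen V ∧
      (c.π.app m.left ⁻¹' V).Nonempty ∧ c.π.app m.left ⁻¹' V ⊆ C.1 ∧
      ∀ C' ∈ irreducibleComponents c.pt, C' ≠ C.1 → Disjoint (c.π.app m.left ⁻¹' V) C' := by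
    intro C
    let U : Set c.pt := (⋃₀ (irreducibleComponents c.pt \ {C.1}))ᶜ
    have hUo : IsOpen U := (isClosed_sUnion_of_finite (hfin.subset sdiff_subset) fun z hz =>
      isClosed_of_mem_irreducibleComponents z hz.1).isOpen_compl
    have hUC : U ⊆ C.1 := fun x hx => by
      by_contra hxC
      exact hx ⟨irreducibleComponent x, ⟨irreducibleComponent_mem_irreducibleComponents x,
        fun e => hxC (e ▸ mem_irreducibleComponent)⟩, mem_irreducibleComponent⟩
    have hUne : U.Nonempty := by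
      by_contra h'
      rw [not_nonempty_iff_eq_empty, compl_empty_iff] at h'
      obtain ⟨z, hz, hCz⟩ := isIrreducible_iff_sUnion_isClosed.mp C.2.1
        (hfin.subset (sdiff_subset (t := {C.1}))).toFinset
        (fun z hz => isClosed_of_mem_irreducibleComponents z ((Set.Finite.mem_toFinset _).mp hz).1)
        (by rw [Set.Finite.coe_toFinset, h']; exact subset_univ _)
      obtain ⟨hz1, hz2⟩ := (Set.Finite.mem_toFinset _).mp hz
      exact hz2 ((C.2.2 hz1.1 hCz).antisymm hCz)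
    obtain ⟨m, φ, V, hV, -, hVU⟩ := exists_open_preimage_eq D c hc i₀ U hUo (NoetherianSpace.isCompact U)
    refine ⟨Over.mk φ, V, hV, hVU ▸ hUne, hVU ▸ hUC, fun C' hC' hne => ?_⟩
    show Disjoint (c.π.app m ⁻¹' V) C'
    rw [hVU]
    exact Set.disjoint_left.mpr fun x hx hx' => hx ⟨C', ⟨hC', hne⟩, hx'⟩
  choose M V hVo hVne hVC hVd using hU
  haveI : Finite (irreducibleComponents c.pt) := hfin.to_subtype
  letI : Fintype (irreducibleComponents c.pt) := Fintype.ofFinite _
  obtain ⟨i, hi⟩ := IsCofiltered.inf_objs_exists (Finset.univ.image M)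
  refine ⟨i.left, i.hom, fun j φ => bijOn_irreducibleComponents_of_dense (Scheme.Hom.continuous _)
    (dense_range_π hc hd j) fun C hC => ?_⟩
  obtain ⟨b⟩ := hi (Finset.mem_image_of_mem M (Finset.mem_univ ⟨C, hC⟩))
  refine ⟨D.map (φ ≫ b.left) ⁻¹' V ⟨C, hC⟩, (hVo _).preimage (Scheme.Hom.continuous _), ?_⟩
  rw [π_preimage_map]
  exact ⟨hVne _, hVC _, hVd ⟨C, hC⟩⟩

omit hc in
theorem isClopen_connectedComponent_of_noetherian {X : Type u} [TopologicalSpace X] [NoetherianSpace X]
    (x : X) : IsClopen (connectedComponent x) := by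
  refine ⟨isClosed_connectedComponent, ?_⟩
  have hfin := NoetherianSpace.finite_irreducibleComponents (α := X)
  have e : (connectedComponent x)ᶜ =
      ⋃₀ {C ∈ irreducibleComponents X | Disjoint C (connectedComponent x)} := by
    ext y
    refine ⟨fun hy => ⟨irreducibleComponent y, ⟨irreducibleComponent_mem_irreducibleComponents y, ?_⟩,
      mem_irreducibleComponent⟩, ?_⟩
    · rw [Set.disjoint_left]
      intro z hz hz'
      apply hy
      have h1 : irreducibleComponent y ⊆ connectedComponent z :=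
        isIrreducible_irreducibleComponent.isConnected.isPreconnected.subset_connectedComponent hz
      rw [connectedComponent_eq hz']
      exact h1 mem_irreducibleComponent
    · rintro ⟨C, ⟨-, hC⟩, hyC⟩ hy
      exact Set.disjoint_left.mp hC hyC hy
  rw [← isClosed_compl_iff, e]
  exact isClosed_sUnion_of_finite (hfin.subset fun C (hC : C ∈ irreducibleComponents X ∧ _) => hC.1) fun C hC =>
    isClosed_of_mem_irreducibleComponents C hC.1

include hc in
theorem exists_stage_bijOn_connectedComponents (hd : ∀ (i j : I) (φ : i ⟶ j), IsDominant (D.map φ))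
    (i₀ : I) [CompactSpace (D.obj i₀)] [NoetherianSpace c.pt] :
    ∃ (i : I) (_ : i ⟶ i₀), ∀ (j : I) (_ : j ⟶ i),
      BijOn (fun C : Set c.pt => closure (c.π.app j '' C))
        (range (connectedComponent : c.pt → Set c.pt))
        (range (connectedComponent : D.obj j → Set (D.obj j))) := by
  classical
  let K := range (connectedComponent : c.pt → Set c.pt)
  haveI : Finite K := by
    have hfin := NoetherianSpace.finite_irreducibleComponents (α := c.pt)
    haveI := hfin.to_subtype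
    have hne : ∀ C : irreducibleComponents c.pt, C.1.Nonempty := fun C => C.2.1.nonempty
    refine Finite.of_surjective (fun C : irreducibleComponents c.pt =>
      (⟨connectedComponent (hne C).some, _, rfl⟩ : K)) ?_
    rintro ⟨_, x, rfl⟩
    refine ⟨⟨irreducibleComponent x, irreducibleComponent_mem_irreducibleComponents x⟩, Subtype.ext ?_⟩
    have h1 : irreducibleComponent x ⊆ connectedComponent x :=
      isIrreducible_irreducibleComponent.isConnected.isPreconnected.subset_connectedComponent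
        mem_irreducibleComponent
    exact (connectedComponent_eq (h1 (Set.Nonempty.some_mem
      (hne ⟨irreducibleComponent x, irreducibleComponent_mem_irreducibleComponents x⟩)))).symm
  have hclop : ∀ C : K, IsClopen C.1 := fun ⟨_, x, rfl⟩ => isClopen_connectedComponent_of_noetherian x
  have hU : ∀ C : K, ∃ (m : Over i₀) (V : Set (D.obj m.left)), IsOpen V ∧ c.π.app m.left ⁻¹' V = C.1 :=
    fun C => by
      obtain ⟨m, φ, V, hV, -, hVC⟩ := exists_open_preimage_eq D c hc i₀ C.1 (hclop C).2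
        (NoetherianSpace.isCompact _)
      exact ⟨Over.mk φ, V, hV, hVC⟩
  choose M V hVo hVC using hU
  letI : Fintype K := Fintype.ofFinite _
  obtain ⟨k, hk⟩ := IsCofiltered.inf_objs_exists (Finset.univ.image M)
  have hb : ∀ C : K, Nonempty (k ⟶ M C) := fun C => hk (Finset.mem_image_of_mem M (Finset.mem_univ C))
  let Vk : K → Set (D.obj k.left) := fun C => D.map (hb C).some.left ⁻¹' V C
  have hVk : ∀ C, c.π.app k.left ⁻¹' Vk C = C.1 := fun C => by rw [π_preimage_map, hVC]
  have hVko : ∀ C, IsOpen (Vk C) := fun C => (hVo C).preimage (Scheme.Hom.continuous _)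
  haveI := compactSpace_stage D k.hom
  obtain ⟨i, ψ, hi⟩ := exists_stage_eq_top D c hc k.left (isOpen_iUnion hVko) (by
    rw [preimage_iUnion]
    refine eq_univ_of_forall fun x => mem_iUnion.mpr ⟨⟨connectedComponent x, x, rfl⟩, ?_⟩
    rw [hVk]; exact mem_connectedComponent)
  refine ⟨i, ψ ≫ k.hom, fun j φ => ?_⟩
  let W : K → Set (D.obj j) := fun C => D.map (φ ≫ ψ) ⁻¹' Vk C
  have hW : ∀ C, IsOpen (W C) := fun C => (hVko C).preimage (Scheme.Hom.continuous _)
  have hWC : ∀ C, c.π.app j ⁻¹' W C = C.1 := fun C => by rw [π_preimage_map, hVk]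
  have hWcov : ∀ y : D.obj j, ∃ C, y ∈ W C := fun y => by
    have h1 : D.map φ y ∈ D.map ψ ⁻¹' ⋃ C, Vk C := by rw [hi]; trivial
    obtain ⟨C, hC⟩ := mem_iUnion.mp (show D.map ψ (D.map φ y) ∈ ⋃ C, Vk C from h1)
    exact ⟨C, by show D.map (φ ≫ ψ) y ∈ Vk C; rw [D.map_comp, Scheme.Hom.comp_apply]; exact hC⟩
  have hdisj : ∀ C C', C ≠ C' → Disjoint (W C) (W C') := fun C C' hne => by
    rw [Set.disjoint_iff_inter_eq_empty]
    by_contra h'
    obtain ⟨z, hz⟩ := preimage_nonempty hc hd ((hW C).inter (hW C')) (nonempty_iff_ne_empty.mpr h')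
    rw [preimage_inter, hWC, hWC] at hz
    obtain ⟨⟨_, x, rfl⟩, hne⟩ : ∃ C₁ : K, C₁ = C ∧ C₁ ≠ C' := ⟨C, rfl, hne⟩
    obtain ⟨x', hx'⟩ := C'.2
    obtain ⟨rfl, hne⟩ := hne
    exact hne (Subtype.ext ((connectedComponent_eq hz.1).trans
      ((connectedComponent_eq (hx'.symm ▸ hz.2 : z ∈ connectedComponent x')).symm.trans hx')))
  have hWcl : ∀ C, IsClopen (W C) := fun C => ⟨⟨by
    have e : (W C)ᶜ = ⋃ C' ∈ {C' | C' ≠ C}, W C' := by
      ext y
      refine ⟨fun hy => ?_, fun hy hy' => ?_⟩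
      · obtain ⟨C', hC'⟩ := hWcov y
        exact mem_iUnion₂.mpr ⟨C', fun e => hy (e ▸ hC'), hC'⟩
      · obtain ⟨C', hne, hC'⟩ := mem_iUnion₂.mp hy
        exact Set.disjoint_left.mp (hdisj C' C hne) hC' hy'
    rw [e]
    exact isOpen_biUnion fun C' _ => hW C'⟩, hW C⟩
  have hcl : ∀ C : K, closure (c.π.app j '' C.1) = W C := fun C => by
    refine Subset.antisymm (closure_minimal ?_ (hWcl C).1) ?_
    · rw [image_subset_iff, hWC]
    · have h1 := (dense_range_π hc hd j).open_subset_closure_inter (hW C)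
      refine h1.trans (closure_mono ?_)
      rintro _ ⟨hy, x, rfl⟩
      exact ⟨x, (hWC C).le hy, rfl⟩
  have hWconn : ∀ C : K, _root_.IsConnected (W C) := fun C => by
    rw [← hcl C]
    obtain ⟨x, hx⟩ := C.2
    rw [← hx]
    exact (isConnected_connectedComponent.image _ (Scheme.Hom.continuous _).continuousOn).closure
  have hWcomp : ∀ (C : K) (y : D.obj j), y ∈ W C → connectedComponent y = W C := fun C y hy =>
    Subset.antisymm ((hWcl C).connectedComponent_subset hy)
      ((hWconn C).isPreconnected.subset_connectedComponent hy)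
  refine ⟨fun C hC => ?_, fun C hC C' hC' e => ?_, ?_⟩
  · obtain ⟨y, hy⟩ := (hWconn ⟨C, hC⟩).nonempty
    exact ⟨y, (hWcomp ⟨C, hC⟩ y hy).trans (hcl ⟨C, hC⟩).symm⟩
  · have e' : W ⟨C, hC⟩ = W ⟨C', hC'⟩ := (hcl ⟨C, hC⟩).symm.trans (e.trans (hcl ⟨C', hC'⟩))
    exact ((hWC ⟨C, hC⟩).symm.trans ((congrArg (c.π.app j ⁻¹' ·) e').trans (hWC ⟨C', hC'⟩)))
  · intro T hT
    obtain ⟨y, rfl⟩ := hT
    obtain ⟨C, hC⟩ := hWcov y
    exact ⟨C.1, C.2, (hcl C).trans (hWcomp C y hC).symm⟩

end GrothLib.ConsLim
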