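import Groth.Agent.Lib.ConsLim.Noeth
import Groth.Agent.Lib.ConsLim.BaseChange
import Groth.Agent.Lib.ConsLim.Models
import Groth.Agent.Lib.Constr.Topology

/-!
# Loci of constructible properties are constructible
-/

set_option autoImplicit false
set_option backward.isDefEq.respectTransparency false
universe u

open CategoryTheory Limits AlgebraicGeometry Topology TopologicalSpace Set

noncomputable section

namespace GrothLib.ConsLim

open GrothLib.LimDescend

variable {X Y S : Scheme.{u}}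

/-- Ind-constructibility is local, tested on spectra of affine opens. -/
theorem isIndConstructible_of_affine (E : Set S)
    (h : ∀ (V : S.Opens) (hV : IsAffineOpen V), ProCons.IsIndConstructible (hV.fromSpec ⁻¹' E)) :
    ProCons.IsIndConstructible E := by
  refine Constr.isIndConstructible_of_forall_mem fun x _ => ?_
  obtain ⟨V, hV, hxV, -⟩ := Constr.exists_affine_nhd x isOpen_univ (mem_univ x)
  haveI := Constr.compactSpace_of_isAffineOpen hV
  haveI := Constr.quasiSeparatedSpace_of_isAffineOpen hV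
  haveI : QuasiSeparatedSpace V.toScheme := Constr.quasiSeparatedSpace_of_isAffineOpen hV
  refine ⟨V, hxV, inferInstance, inferInstance, ?_⟩
  have h1 := Constr.isIndConstructible_preimage hV.isoSpec.hom (h V hV)
  have e : hV.isoSpec.hom ⁻¹' (hV.fromSpec ⁻¹' E) = (V.ι ⁻¹' E) := by
    ext z
    simp only [mem_preimage]
    rw [← Scheme.Hom.comp_apply, hV.isoSpec_hom_fromSpec]
  rw [e] at h1
  exact Constr.isOpen_constructibleTopology_iff_isIndConstructible.mpr h1

theorem qc_qs_lft_comp {X' Y' T : Scheme.{u}} {f : X ⟶ Y} {g : Y ⟶ S} {h : T ⟶ S} {f' : X' ⟶ Y'}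
    {g' : Y' ⟶ T} {qX : X' ⟶ X} {qY : Y' ⟶ Y} (hY : IsPullback qY g' g h) (hX : IsPullback qX f' f qY)
    (P : MorphismProperty Scheme.{u}) [P.IsStableUnderBaseChange] (hP : P (f ≫ g)) : P (f' ≫ g') :=
  MorphismProperty.of_isPullback (hX.paste_vert hY) hP

/-- The set of points at which an ind-constructible property of schemes holds for the fibre is
ind-constructible. -/
theorem isIndConstructible_locus {P : ∀ ⦃Y T : Scheme.{u}⦄, (Y ⟶ T) → Prop} (hP : ConsProp.IsIndCons P)
    (u : X ⟶ S) [LocallyOfFinitePresentation u] [QuasiCompact u] [QuasiSeparated u] :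
    ProCons.IsIndConstructible (ConsProp.locus P u) := by
  refine isIndConstructible_of_affine _ fun V hV => ?_
  have hA := IsPullback.of_hasPullback u hV.fromSpec
  obtain ⟨i, X₀, u₀, q, _, _, _, hq⟩ := exists_model_scheme (pullback.snd u hV.fromSpec)
  have e : hV.fromSpec ⁻¹' ConsProp.locus P u =
      (fgCone Γ(S, V)).π.app i ⁻¹' ConsProp.locus P u₀ := Set.ext fun t =>
    ((mem_locus_iff hP.1 hA t).symm.trans (mem_locus_iff hP.1 hq t))
  rw [e]
  refine Constr.isIndConstructible_preimage _ (isIndConstructible_of_generic _ fun Z j _ _ _ hZ => ?_)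
  have hj := IsPullback.of_hasPullback u₀ j
  have e' : j ⁻¹' ConsProp.locus P u₀ = ConsProp.locus P (pullback.snd u₀ j) :=
    Set.ext fun t => (mem_locus_iff hP.1 hj t).symm
  rw [e'] at hZ ⊢
  exact hP.2 _ hZ

/-- The set of points at which an ind-constructible property of pairs holds for the fibres is
ind-constructible. -/
theorem isIndConstructible_locusPair {P : ∀ ⦃X Y T : Scheme.{u}⦄, (X ⟶ T) → (Y ⟶ T) → Prop}
    (hP : ConsPropPair.IsIndConsPair P) (u : X ⟶ S) (v : Y ⟶ S)
    [LocallyOfFinitePresentation u] [QuasiCompact u] [QuasiSeparated u]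
    [LocallyOfFinitePresentation v] [QuasiCompact v] [QuasiSeparated v] :
    ProCons.IsIndConstructible (ConsPropPair.locusPair P u v) := by
  refine isIndConstructible_of_affine _ fun V hV => ?_
  have hA := IsPullback.of_hasPullback u hV.fromSpec
  have hB := IsPullback.of_hasPullback v hV.fromSpec
  obtain ⟨i, MX, MY, -⟩ := exists_model_pair (pullback.snd u hV.fromSpec) (pullback.snd v hV.fromSpec)
  have e : hV.fromSpec ⁻¹' ConsPropPair.locusPair P u v =
      (fgCone Γ(S, V)).π.app i ⁻¹' ConsPropPair.locusPair P MX.hom MY.hom := Set.ext fun t =>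
    ((mem_locusPair_iff hP.1 hA hB t).symm.trans (mem_locusPair_iff hP.1 MX.isPullback MY.isPullback t))
  rw [e]
  refine Constr.isIndConstructible_preimage _ (isIndConstructible_of_generic _ fun Z j _ _ _ hZ => ?_)
  have hj := IsPullback.of_hasPullback MX.hom j
  have hk := IsPullback.of_hasPullback MY.hom j
  have e' : j ⁻¹' ConsPropPair.locusPair P MX.hom MY.hom =
      ConsPropPair.locusPair P (pullback.snd MX.hom j) (pullback.snd MY.hom j) :=
    Set.ext fun t => (mem_locusPair_iff hP.1 hj hk t).symm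
  rw [e'] at hZ ⊢
  exact hP.2 _ _ hZ

/-- The set of points at which an ind-constructible property of morphisms holds for the fibres is
ind-constructible. -/
theorem isIndConstructible_locusMor {P : ∀ ⦃X Y T : Scheme.{u}⦄, (X ⟶ Y) → (Y ⟶ T) → Prop}
    (hP : ConsProp.IsIndConsMor P) (f : X ⟶ Y) (g : Y ⟶ S)
    [LocallyOfFinitePresentation g] [QuasiCompact g] [QuasiSeparated g]
    [LocallyOfFinitePresentation (f ≫ g)] [QuasiCompact (f ≫ g)] [QuasiSeparated (f ≫ g)] :
    ProCons.IsIndConstructible (ConsProp.locusMor P f g) := by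
  refine isIndConstructible_of_affine _ fun V hV => ?_
  let qY := pullback.fst g hV.fromSpec
  let gA := pullback.snd g hV.fromSpec
  let fA := pullback.snd f qY
  have hY : IsPullback qY gA g hV.fromSpec := IsPullback.of_hasPullback _ _
  have hX : IsPullback (pullback.fst f qY) fA f qY := IsPullback.of_hasPullback _ _
  haveI : LocallyOfFinitePresentation (fA ≫ gA) := qc_qs_lft_comp hY hX @LocallyOfFinitePresentation ‹_›
  haveI : QuasiCompact (fA ≫ gA) := qc_qs_lft_comp hY hX @QuasiCompact ‹_›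
  haveI : QuasiSeparated (fA ≫ gA) := qc_qs_lft_comp hY hX @QuasiSeparated ‹_›
  obtain ⟨i, X₀, Y₀, f₀, g₀, rX, rY, _, _, _, _, _, _, hY₀, hX₀⟩ := exists_model_mor fA gA
  have e : hV.fromSpec ⁻¹' ConsProp.locusMor P f g =
      (fgCone Γ(S, V)).π.app i ⁻¹' ConsProp.locusMor P f₀ g₀ := Set.ext fun t =>
    ((mem_locusMor_iff hP.1 hY hX t).symm.trans (mem_locusMor_iff hP.1 hY₀ hX₀ t))
  rw [e]
  refine Constr.isIndConstructible_preimage _ (isIndConstructible_of_generic _ fun Z j _ _ _ hZ => ?_)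
  have hY' : IsPullback (pullback.fst g₀ j) (pullback.snd g₀ j) g₀ j := IsPullback.of_hasPullback _ _
  have hX' : IsPullback (pullback.fst f₀ (pullback.fst g₀ j)) (pullback.snd f₀ (pullback.fst g₀ j)) f₀
      (pullback.fst g₀ j) := IsPullback.of_hasPullback _ _
  haveI : LocallyOfFiniteType (pullback.snd f₀ (pullback.fst g₀ j) ≫ pullback.snd g₀ j) :=
    qc_qs_lft_comp hY' hX' @LocallyOfFiniteType inferInstance
  haveI : QuasiCompact (pullback.snd f₀ (pullback.fst g₀ j) ≫ pullback.snd g₀ j) :=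
    qc_qs_lft_comp hY' hX' @QuasiCompact ‹_›
  have e' : j ⁻¹' ConsProp.locusMor P f₀ g₀ =
      ConsProp.locusMor P (pullback.snd f₀ (pullback.fst g₀ j)) (pullback.snd g₀ j) :=
    Set.ext fun t => (mem_locusMor_iff hP.1 hY' hX' t).symm
  rw [e'] at hZ ⊢
  exact hP.2 _ _ hZ

theorem generic_dichotomy {Z : Scheme.{u}} [IrreducibleSpace Z] {E : Set Z}
    (h : (interior E).Nonempty ∨ (interior Eᶜ).Nonempty) :
    (genericPoint Z ∈ E → (interior E).Nonempty) ∧ (genericPoint Z ∈ Eᶜ → (interior Eᶜ).Nonempty) := by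
  have key : ∀ F : Set Z, (interior F).Nonempty → genericPoint Z ∈ F := fun F ⟨z, hz⟩ =>
    interior_subset ((genericPoint_specializes z).mem_open isOpen_interior hz)
  exact ⟨fun hg => h.resolve_right fun h' => key _ h' hg, fun hg => h.resolve_left fun h' => hg (key _ h')⟩

theorem isIndCons_of_isCons {P : ∀ ⦃Y T : Scheme.{u}⦄, (Y ⟶ T) → Prop} (hP : ConsProp.IsCons P) :
    ConsProp.IsIndCons P ∧ ConsProp.IsIndCons (fun Y T g => ¬ P g) :=
  ⟨⟨hP.1, fun _ _ u _ _ _ _ hg => (generic_dichotomy (hP.2 u)).1 hg⟩,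
    ⟨fun Y Y' T T' g g' e h _ _ _ _ _ _ hsq => not_congr (hP.1 g g' e h hsq),
      fun _ _ u _ _ _ _ hg => (generic_dichotomy (hP.2 u)).2 hg⟩⟩

theorem isIndConsMor_of_isConsMor {P : ∀ ⦃X Y T : Scheme.{u}⦄, (X ⟶ Y) → (Y ⟶ T) → Prop}
    (hP : ConsProp.IsConsMor P) :
    ConsProp.IsIndConsMor P ∧ ConsProp.IsIndConsMor (fun X Y T f g => ¬ P f g) :=
  ⟨⟨hP.1, fun _ _ _ f g _ _ _ _ _ _ hg => (generic_dichotomy (hP.2 f g)).1 hg⟩,
    ⟨fun X X' Y Y' T T' f g f' g' eX eY h _ _ _ _ _ _ _ _ h1 h2 => not_congr (hP.1 f g f' g' eX eY h h1 h2),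
      fun _ _ _ f g _ _ _ _ _ _ hg => (generic_dichotomy (hP.2 f g)).2 hg⟩⟩

theorem isIndConsPair_of_isConsPair {P : ∀ ⦃X Y T : Scheme.{u}⦄, (X ⟶ T) → (Y ⟶ T) → Prop}
    (hP : ConsPropPair.IsConsPair P) :
    ConsPropPair.IsIndConsPair P ∧ ConsPropPair.IsIndConsPair (fun X Y T a b => ¬ P a b) :=
  ⟨⟨hP.1, fun _ _ _ u v _ _ _ _ _ _ hg => (generic_dichotomy (hP.2 u v)).1 hg⟩,
    ⟨fun X X' Y Y' T T' a b a' b' eX eY h _ _ _ _ _ _ _ _ h1 h2 => not_congr (hP.1 a b a' b' eX eY h h1 h2),
      fun _ _ _ u v _ _ _ _ _ _ hg => (generic_dichotomy (hP.2 u v)).2 hg⟩⟩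

theorem isLocallyConstructible_of_ind {E : Set S} (h : ProCons.IsIndConstructible E)
    (h' : ProCons.IsIndConstructible Eᶜ) : IsLocallyConstructible E :=
  Constr.isLocallyConstructible_iff_ind_and_pro.mpr ⟨h, Constr.isProConstructible_iff_compl.mpr h'⟩

theorem isLocallyConstructible_locus {P : ∀ ⦃Y T : Scheme.{u}⦄, (Y ⟶ T) → Prop} (hP : ConsProp.IsCons P)
    (u : X ⟶ S) [LocallyOfFinitePresentation u] [QuasiCompact u] [QuasiSeparated u] :
    IsLocallyConstructible (ConsProp.locus P u) :=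
  isLocallyConstructible_of_ind (isIndConstructible_locus (isIndCons_of_isCons hP).1 u)
    (isIndConstructible_locus (isIndCons_of_isCons hP).2 u)

theorem isLocallyConstructible_locusMor {P : ∀ ⦃X Y T : Scheme.{u}⦄, (X ⟶ Y) → (Y ⟶ T) → Prop}
    (hP : ConsProp.IsConsMor P) (f : X ⟶ Y) (g : Y ⟶ S)
    [LocallyOfFinitePresentation g] [QuasiCompact g] [QuasiSeparated g]
    [LocallyOfFinitePresentation (f ≫ g)] [QuasiCompact (f ≫ g)] [QuasiSeparated (f ≫ g)] :
    IsLocallyConstructible (ConsProp.locusMor P f g) :=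
  isLocallyConstructible_of_ind (isIndConstructible_locusMor (isIndConsMor_of_isConsMor hP).1 f g)
    (isIndConstructible_locusMor (isIndConsMor_of_isConsMor hP).2 f g)

theorem isLocallyConstructible_locusPair {P : ∀ ⦃X Y T : Scheme.{u}⦄, (X ⟶ T) → (Y ⟶ T) → Prop}
    (hP : ConsPropPair.IsConsPair P) (u : X ⟶ S) (v : Y ⟶ S)
    [LocallyOfFinitePresentation u] [QuasiCompact u] [QuasiSeparated u]
    [LocallyOfFinitePresentation v] [QuasiCompact v] [QuasiSeparated v] :
    IsLocallyConstructible (ConsPropPair.locusPair P u v) :=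
  isLocallyConstructible_of_ind (isIndConstructible_locusPair (isIndConsPair_of_isConsPair hP).1 u v)
    (isIndConstructible_locusPair (isIndConsPair_of_isConsPair hP).2 u v)

end GrothLib.ConsLim
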