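import Groth.Agent.Lib.ConsLim.Main
import Groth.Agent.Lib.ConsLim.Limit
import Groth.Agent.Lib.ModDesc.Approx

/-!
# Loci of constructible properties of modules are constructible
-/

set_option autoImplicit false
set_option backward.isDefEq.respectTransparency false
set_option linter.style.haveILetI false
universe u

open CategoryTheory Limits AlgebraicGeometry Topology TopologicalSpace Set

noncomputable section

namespace GrothLib.ConsLim

open GrothLib.LimDescend

variable {X S : Scheme.{u}}

/-- The set of points at which an ind-constructible property of a module on the fibre holds is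
ind-constructible. -/
theorem isIndConstructible_locusMod {P : ∀ ⦃Y T : Scheme.{u}⦄, (Y ⟶ T) → Y.Modules → Prop}
    (hP : ConsProp.IsIndConsMod P) (u : X ⟶ S)
    [LocallyOfFinitePresentation u] [QuasiCompact u] [QuasiSeparated u]
    (F : X.Modules) [F.IsQuasicoherent] (hF : CohB1.IsFP F) :
    ProCons.IsIndConstructible (ConsProp.locusMod P u F) := by
  haveI := hF
  have hFT : CohB1.IsFT F := inferInstance
  refine isIndConstructible_of_affine _ fun V hV => ?_
  have hA := IsPullback.of_hasPullback u hV.fromSpec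
  let uA := pullback.snd u hV.fromSpec
  let FA := (Scheme.Modules.pullback (pullback.fst u hV.fromSpec)).obj F
  haveI : FA.IsQuasicoherent := FittSheaf.isQuasicoherent_pullback _ F
  have hFA : CohB1.IsFP FA := FittSheaf.isFP_pullback (f := pullback.fst u hV.fromSpec) F hF
  obtain ⟨i, ⟨M⟩⟩ := exists_model (fgDiagram Γ(S, V)) (fgCone Γ(S, V)) (isLimitFgCone Γ(S, V))
    (X := pullback u hV.fromSpec) uA
  haveI := compactSpace_model (fgDiagram Γ(S, V)) (fgCone Γ(S, V)) M
  haveI := M.lfp
  let D := fgDiagram Γ(S, V)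
  let E := LimDesc.diag D i M.hom
  haveI : ∀ j, IsLocallyNoetherian (E.obj j) := fun j => by
    haveI : LocallyOfFiniteType (pullback.snd M.hom (D.map j.hom)) :=
      MorphismProperty.pullback_snd _ _ inferInstance
    exact LocallyOfFiniteType.isLocallyNoetherian (pullback.snd M.hom (D.map j.hom))
  haveI : ∀ (j k : Over i) (a : j ⟶ k), IsAffineHom (E.map a) := fun j k a =>
    LimDesc.isAffineHom_map D i M.hom a
  haveI : CompactSpace ↥(E.obj (Over.mk (𝟙 i))) := LimDesc.compactSpace_obj D i M.hom _
  obtain ⟨j, -, Fj, hFj, ⟨e⟩⟩ := ModDesc.exists_descend E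
    (LimDesc.cone D i M.hom (c := fgCone Γ(S, V)) M.isPullback)
    (LimDesc.isLimitCone D i M.hom (c := fgCone Γ(S, V)) M.isPullback (isLimitFgCone Γ(S, V))) (Over.mk (𝟙 i)) FA hFA
  let uj := pullback.snd M.hom (D.map j.hom)
  haveI : LocallyOfFinitePresentation uj := MorphismProperty.pullback_snd _ _ inferInstance
  haveI : QuasiCompact uj := MorphismProperty.pullback_snd _ _ M.qc
  haveI : Fj.IsQuasicoherent := hFj.1
  have hsq : IsPullback ((LimDesc.cone D i M.hom (c := fgCone Γ(S, V)) M.isPullback).π.app j) uA uj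
      ((fgCone Γ(S, V)).π.app j.left) := by
    refine IsPullback.of_right ?_ (LimDesc.π_snd D i M.hom (c := fgCone Γ(S, V)) M.isPullback j)
      (IsPullback.of_hasPullback M.hom (D.map j.hom))
    rw [LimDesc.π_fst, (fgCone Γ(S, V)).w]
    exact M.isPullback
  have hloc : hV.fromSpec ⁻¹' ConsProp.locusMod P u F =
      (fgCone Γ(S, V)).π.app j.left ⁻¹' ConsProp.locusMod P uj Fj := Set.ext fun t =>
    ((mem_locusMod_iff hP.1 hA F hFT (Iso.refl FA) t).symm.trans
      (mem_locusMod_iff hP.1 hsq Fj hFj.2 e.symm t))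
  rw [hloc]
  refine Constr.isIndConstructible_preimage _ (isIndConstructible_of_generic _ fun Z z _ _ _ hZ => ?_)
  have hz := IsPullback.of_hasPullback uj z
  let FZ := (Scheme.Modules.pullback (pullback.fst uj z)).obj Fj
  have e' : z ⁻¹' ConsProp.locusMod P uj Fj = ConsProp.locusMod P (pullback.snd uj z) FZ :=
    Set.ext fun t => (mem_locusMod_iff hP.1 hz Fj hFj.2 (Iso.refl FZ) t).symm
  rw [e'] at hZ ⊢
  exact hP.2 _ _ (ModDesc.isCoh_pullback (pullback.fst uj z) Fj hFj) hZ

theorem isIndConsMod_of_isConsMod {P : ∀ ⦃Y T : Scheme.{u}⦄, (Y ⟶ T) → Y.Modules → Prop}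
    (hP : ConsProp.IsConsMod P) :
    ConsProp.IsIndConsMod P ∧ ConsProp.IsIndConsMod (fun Y T g F => ¬ P g F) :=
  ⟨⟨hP.1, fun _ _ u _ _ _ _ F hF hg => (generic_dichotomy (hP.2 u F hF)).1 hg⟩,
    ⟨fun Y Y' T T' g g' e h _ _ _ _ _ _ hsq F F' hF d => not_congr (hP.1 g g' e h hsq F F' hF d),
      fun _ _ u _ _ _ _ F hF hg => (generic_dichotomy (hP.2 u F hF)).2 hg⟩⟩

theorem isLocallyConstructible_locusMod {P : ∀ ⦃Y T : Scheme.{u}⦄, (Y ⟶ T) → Y.Modules → Prop}
    (hP : ConsProp.IsConsMod P) (u : X ⟶ S)
    [LocallyOfFinitePresentation u] [QuasiCompact u] [QuasiSeparated u]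
    (F : X.Modules) [F.IsQuasicoherent] (hF : CohB1.IsFP F) :
    IsLocallyConstructible (ConsProp.locusMod P u F) :=
  isLocallyConstructible_of_ind (isIndConstructible_locusMod (isIndConsMod_of_isConsMod hP).1 u F hF)
    (isIndConstructible_locusMod (isIndConsMod_of_isConsMod hP).2 u F hF)

/-- An ind-constructible set containing the generic point is a neighbourhood of it. -/
theorem genericPoint_mem_interior [IrreducibleSpace S] {E : Set S} (hE : ProCons.IsIndConstructible E)
    (hη : genericPoint S ∈ E) : genericPoint S ∈ interior E := by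
  refine (Constr.mem_interior_iff hE).mpr fun x' hx' => ?_
  rwa [hx'.antisymm (genericPoint_specializes x') |>.eq]

end GrothLib.ConsLim
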