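import Groth.Agent.Lib.Constr.Scheme
import Groth.Agent.Lib.CycPush.Proper
import Groth.Prelude.Def_EGA4Misc

/-!
# Ind-constructibility on Noetherian schemes from generic behaviour
-/

set_option autoImplicit false
set_option backward.isDefEq.respectTransparency false

universe u

open CategoryTheory Limits AlgebraicGeometry Topology TopologicalSpace Set

namespace GrothLib.ConsLim

variable {S : Scheme.{u}} [IsNoetherian S]

/-- On a Noetherian scheme a set is ind-constructible as soon as, pulled back to every integral
closed subscheme whose generic point it contains, it has nonempty interior. -/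
theorem isIndConstructible_of_generic (E : Set S)
    (h : ∀ (Z : Scheme.{u}) (j : Z ⟶ S) [IsClosedImmersion j] [IsIntegral Z] [IsNoetherian Z],
      genericPoint Z ∈ j ⁻¹' E → (interior (j ⁻¹' E)).Nonempty) :
    ProCons.IsIndConstructible E := by
  refine Constr.isIndConstructible_of_pieces fun x hx => ?_
  let j := CycPush.clι x
  haveI : IsLocallyNoetherian (CycPush.clSub x) := LocallyOfFiniteType.isLocallyNoetherian j
  haveI : CompactSpace (CycPush.clSub x) := QuasiCompact.compactSpace_of_compactSpace j
  haveI : IsNoetherian (CycPush.clSub x) := {}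
  have hgen : genericPoint (CycPush.clSub x) ∈ j ⁻¹' E := by
    show CycPush.clι x (genericPoint (CycPush.clSub x)) ∈ E
    rw [CycPush.clι_genericPoint]
    exact hx
  obtain ⟨z, hz⟩ := h _ j hgen
  obtain ⟨U, hU, hUz⟩ := j.isClosedEmbedding.isEmbedding.isInducing.isOpen_iff.mp
    (isOpen_interior (s := (j ⁻¹' E)))
  have hxU : x ∈ U := by
    have h1 : genericPoint (CycPush.clSub x) ∈ interior (j ⁻¹' E) :=
      (genericPoint_specializes z).mem_open isOpen_interior hz
    rw [← hUz, mem_preimage] at h1
    rwa [CycPush.clι_genericPoint] at h1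
  refine ⟨U, hU, hxU, closure {x} ∩ U, ⟨subset_closure rfl, hxU⟩, ?_, ?_⟩
  · rintro y ⟨hy, hyU⟩
    obtain ⟨w, rfl⟩ : y ∈ Set.range j := by rw [CycPush.range_clι]; exact hy
    have hw : w ∈ j ⁻¹' U := hyU
    rw [hUz] at hw
    exact interior_subset (s := j ⁻¹' E) hw
  · refine IsConstructible.isLocallyConstructible ?_
    have he : (Subtype.val ⁻¹' (closure {x} ∩ U) : Set U) = Subtype.val ⁻¹' closure {x} := by
      ext y; simp
    rw [he, ← compl_compl (Subtype.val ⁻¹' closure {x} : Set U)]
    haveI : NoetherianSpace U := NoetherianSpace.set _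
    exact (IsRetrocompact.isConstructible (isClosed_closure.preimage continuous_subtype_val).isOpen_compl
      fun _ _ _ => NoetherianSpace.isCompact _).compl

end GrothLib.ConsLim
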