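import Groth.Agent.Lib.ConsLim.BaseChange
import Groth.Agent.Lib.LimDescend.Hom
import Groth.Agent.Lib.LimDescend.FgAlg
import Groth.Agent.Lib.LimDesc.Inj
import Mathlib.AlgebraicGeometry.Morphisms.FinitePresentation

/-!
# Existence, after a field extension, of a morphism with a given property is ind-constructible
-/

set_option autoImplicit false
set_option backward.isDefEq.respectTransparency false
set_option linter.style.haveILetI false
universe u

open CategoryTheory Limits AlgebraicGeometry Topology TopologicalSpace Set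

noncomputable section

namespace GrothLib.ConsLim

/-- A constructible subset containing the generic point has nonempty interior. -/
theorem interior_nonempty_of_genericPoint_mem {S : Type u} [TopologicalSpace S] [IrreducibleSpace S]
    [QuasiSober S] {E : Set S} (hE : IsConstructible E) (hη : genericPoint S ∈ E) :
    (interior E).Nonempty := by
  suffices h : (genericPoint S ∈ E → (interior E).Nonempty) ∧
      (genericPoint S ∈ Eᶜ → (interior Eᶜ).Nonempty) from h.1 hη
  clear hη
  induction hE using IsConstructible.empty_union_induction with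
  | open_retrocompact U hU _ =>
    refine ⟨fun h => ⟨_, hU.interior_eq.symm ▸ h⟩, fun h => ?_⟩
    have hU0 : U = ∅ := Set.eq_empty_of_forall_notMem fun z hz =>
      h ((genericPoint_specializes z).mem_open hU hz)
    exact ⟨genericPoint S, by simp [hU0]⟩
  | union s hs t ht ihs iht =>
    refine ⟨fun h => ?_, fun h => ?_⟩
    · rcases h with h | h
      · exact (ihs.1 h).mono (interior_mono subset_union_left)
      · exact (iht.1 h).mono (interior_mono subset_union_right)
    · rw [compl_union] at h ⊢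
      rw [interior_inter]
      obtain ⟨a, ha⟩ := ihs.2 h.1
      obtain ⟨b, hb⟩ := iht.2 h.2
      exact ⟨_, (genericPoint_specializes a).mem_open isOpen_interior ha,
        (genericPoint_specializes b).mem_open isOpen_interior hb⟩
  | compl s hs ih => exact ⟨ih.2, fun h => by rw [compl_compl] at h ⊢; exact ih.1 h⟩

variable (Q : MorphismProperty Scheme.{u})

/-- There is, after an extension of the base field, a morphism with the property `Q`. -/
def pairRel : ∀ ⦃X Y T : Scheme.{u}⦄, (X ⟶ T) → (Y ⟶ T) → Prop :=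
  fun X Y T gX gY => ∃ (T' X' Y' : Scheme.{u}) (h : T' ⟶ T) (gX' : X' ⟶ T') (gY' : Y' ⟶ T')
    (eX : X' ⟶ X) (eY : Y' ⟶ Y), IsIntegral T' ∧ Subsingleton ↥T' ∧
      IsPullback eX gX' gX h ∧ IsPullback eY gY' gY h ∧
        ∃ g : X' ⟶ Y', g ≫ gY' = gX' ∧ Q g

/-- The relation is invariant under extension of the base field. -/
theorem isFieldStablePair_pairRel [Q.IsStableUnderBaseChange] :
    ConsPropPair.IsFieldStablePair (pairRel Q) := by
  intro X X' Y Y' T T' gX gY gX' gY' eX eY h _ _ _ _ _ _ _ _ hX hY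
  constructor
  · rintro ⟨T₁, X₁, Y₁, h₁, gX₁, gY₁, eX₁, eY₁, _, _, hX₁, hY₁, g, hg, hQ⟩
    obtain ⟨t₁⟩ : Nonempty T₁ := inferInstance
    obtain ⟨t'⟩ : Nonempty T' := inferInstance
    obtain ⟨w, -, -⟩ := Scheme.Pullback.exists_preimage_pullback (f := h₁) (g := h) t₁ t'
      (Subsingleton.elim _ _)
    let P := pullback h₁ h
    let a₁ : Spec (P.residueField w) ⟶ T₁ := P.fromSpecResidueField w ≫ pullback.fst h₁ h
    let a' : Spec (P.residueField w) ⟶ T' := P.fromSpecResidueField w ≫ pullback.snd h₁ h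
    have ha : a₁ ≫ h₁ = a' ≫ h := by simp [a₁, a', pullback.condition]
    let pY := pullback.fst gY₁ a₁
    let g₂ := pullback.snd g pY
    have hX₂ : IsPullback (pullback.fst g pY ≫ eX₁) (g₂ ≫ pullback.snd gY₁ a₁) gX (a' ≫ h) := by
      rw [← ha]
      have h0 := (IsPullback.of_hasPullback g pY).paste_vert (IsPullback.of_hasPullback gY₁ a₁)
      rw [hg] at h0
      exact h0.paste_horiz hX₁
    have hY₂ : IsPullback (pY ≫ eY₁) (pullback.snd gY₁ a₁) gY (a' ≫ h) := by
      rw [← ha]
      exact (IsPullback.of_hasPullback gY₁ a₁).paste_horiz hY₁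
    obtain ⟨lX, hlX₁, hlX₂⟩ := hX.exists_lift (pullback.fst g pY ≫ eX₁)
      ((g₂ ≫ pullback.snd gY₁ a₁) ≫ a') (by rw [Category.assoc]; exact hX₂.w)
    obtain ⟨lY, hlY₁, hlY₂⟩ := hY.exists_lift (pY ≫ eY₁) (pullback.snd gY₁ a₁ ≫ a')
      (by rw [Category.assoc]; exact hY₂.w)
    exact ⟨Spec (P.residueField w), _, _, a', g₂ ≫ pullback.snd gY₁ a₁, pullback.snd gY₁ a₁, lX, lY,
      inferInstance, inferInstance, IsPullback.of_right (hlX₁.symm ▸ hX₂) hlX₂ hX,
      IsPullback.of_right (hlY₁.symm ▸ hY₂) hlY₂ hY, g₂, rfl, Q.pullback_snd g pY hQ⟩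
  · rintro ⟨T₁, X₁, Y₁, h₁, gX₁, gY₁, eX₁, eY₁, hT₁, hT₁', hX₁, hY₁, hg⟩
    exact ⟨T₁, X₁, Y₁, h₁ ≫ h, gX₁, gY₁, eX₁ ≫ eX, eY₁ ≫ eY, hT₁, hT₁', hX₁.paste_horiz hX,
      hY₁.paste_horiz hY, hg⟩

/-- `Q` descends to a stage of a limit, for finitely presented data. -/
def DescendsToStage : Prop :=
  ∀ {I : Type u} [SmallCategory I] [IsCofiltered I] (D : I ⥤ Scheme.{u}) {c : Cone D}
    [∀ (i j : I) (f : i ⟶ j), IsAffineHom (D.map f)] (_ : IsLimit c) {i₀ : I}
    [CompactSpace ↥(D.obj i₀)] [QuasiSeparatedSpace ↥(D.obj i₀)] {X₀ Y₀ : Scheme.{u}}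
    (f₀ : X₀ ⟶ Y₀) (g₀ : Y₀ ⟶ D.obj i₀) [CompactSpace X₀] [QuasiSeparatedSpace X₀] [CompactSpace Y₀]
    [QuasiSeparatedSpace Y₀] [LocallyOfFinitePresentation g₀] [LocallyOfFinitePresentation f₀]
    {X Y : Scheme.{u}} {f : X ⟶ Y} {g : Y ⟶ c.pt} {qY : Y ⟶ Y₀} {qX : X ⟶ X₀},
    IsPullback qY g g₀ (c.π.app i₀) → IsPullback qX f f₀ qY → Q f →
      ∃ j : Over i₀, Q ((LimDesc.mapNat D i₀ g₀ (f₀ ≫ g₀) f₀ rfl).app j)

/-- The family condition. -/
theorem interior_locusPair_pairRel [Q.IsStableUnderBaseChange] (hD : DescendsToStage Q)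
    {X Y S : Scheme.{u}} (u : X ⟶ S) (v : Y ⟶ S) [IsIntegral S] [IsNoetherian S]
    [LocallyOfFiniteType u] [QuasiCompact u] [LocallyOfFiniteType v] [QuasiCompact v]
    (hη : genericPoint S ∈ ConsPropPair.locusPair (pairRel Q) u v) :
    (interior (ConsPropPair.locusPair (pairRel Q) u v)).Nonempty := by
  obtain ⟨T', X', Y', h, gX', gY', eX, eY, _, _, hX', hY', g, hg, hQ⟩ := hη
  haveI : IsLocallyNoetherian X := LocallyOfFiniteType.isLocallyNoetherian u
  haveI : IsLocallyNoetherian Y := LocallyOfFiniteType.isLocallyNoetherian v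
  haveI : QuasiSeparated u := inferInstance
  haveI : QuasiSeparated v := inferInstance
  haveI : LocallyOfFinitePresentation u := inferInstance
  haveI : LocallyOfFinitePresentation v := inferInstance
  -- the generic point lies in an affine open, through which `T'` factors
  obtain ⟨W, hW, hηW, -⟩ := exists_isAffineOpen_mem_and_subset (Opens.mem_top (genericPoint S))
  let t : T' ⟶ S := h ≫ S.fromSpecResidueField (genericPoint S)
  have ht : Set.range t ⊆ Set.range hW.fromSpec := by
    rintro _ ⟨z, rfl⟩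
    rw [hW.range_fromSpec]
    show S.fromSpecResidueField (genericPoint S) (h z) ∈ W
    have e1 : S.fromSpecResidueField (genericPoint S) (h z) = genericPoint S := by
      have : S.fromSpecResidueField (genericPoint S) (h z) ∈
          Set.range (S.fromSpecResidueField (genericPoint S)) := ⟨_, rfl⟩
      rwa [Scheme.range_fromSpecResidueField, Set.mem_singleton_iff] at this
    rw [e1]
    exact hηW
  obtain ⟨z₀⟩ : Nonempty T' := inferInstance
  haveI : IsAffine T' := by
    obtain ⟨U, hU, hzU, -⟩ := exists_isAffineOpen_mem_and_subset (Opens.mem_top z₀)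
    have e : U = ⊤ := top_le_iff.mp fun z _ => Subsingleton.elim z₀ z ▸ hzU
    exact IsAffine.of_isIso (T'.topIso.inv) (h := (e ▸ hU : IsAffineOpen (⊤ : T'.Opens)))
  let tW : Spec Γ(T', ⊤) ⟶ Spec Γ(S, W) := T'.isoSpec.inv ≫ IsOpenImmersion.lift hW.fromSpec t ht
  letI : Algebra Γ(S, W) Γ(T', ⊤) := (Spec.preimage tW).hom.toAlgebra
  have halg : Spec.map (CommRingCat.ofHom (algebraMap Γ(S, W) Γ(T', ⊤))) = tW := Spec.map_preimage tW
  let D := LimDescend.Rel.fgDiagram Γ(S, W) Γ(T', ⊤)
  let c := LimDescend.Rel.fgCone Γ(S, W) Γ(T', ⊤)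
  have hc : IsLimit c := LimDescend.Rel.isLimitFgCone Γ(S, W) Γ(T', ⊤)
  let σ : ∀ i, D.obj i ⟶ S := fun i =>
    Spec.map (CommRingCat.ofHom (algebraMap Γ(S, W) ↥i.unop.1)) ≫ hW.fromSpec
  have hσ : ∀ i, c.π.app i ≫ σ i = T'.isoSpec.inv ≫ t := fun i => by
    have e : c.π.app i ≫ Spec.map (CommRingCat.ofHom (algebraMap Γ(S, W) ↥i.unop.1)) = tW := by
      rw [← halg]
      exact (Spec.map_comp _ _).symm
    rw [← Category.assoc, e, Category.assoc, IsOpenImmersion.lift_fac]
  have hσD : ∀ {i j} (φ : i ⟶ j), D.map φ ≫ σ j = σ i := fun {i j} φ => by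
    rw [← Category.assoc]
    congr 1
    exact (Spec.map_comp _ _).symm
  obtain ⟨i₀⟩ : Nonempty (LimDescend.Rel.FgSub Γ(S, W) Γ(T', ⊤))ᵒᵖ := inferInstance
  let a := pullback.snd u (σ i₀)
  let b := pullback.snd v (σ i₀)
  haveI : CompactSpace ↥(pullback u (σ i₀)) := QuasiCompact.compactSpace_of_compactSpace a
  haveI : CompactSpace ↥(pullback v (σ i₀)) := QuasiCompact.compactSpace_of_compactSpace b
  haveI : QuasiSeparatedSpace ↥(pullback u (σ i₀)) := quasiSeparatedSpace_of_quasiSeparated a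
  haveI : QuasiSeparatedSpace ↥(pullback v (σ i₀)) := quasiSeparatedSpace_of_quasiSeparated b
  have hP : ∀ {Z Z' : Scheme.{u}} (w : Z ⟶ S) (e : Z' ⟶ w.fiber (genericPoint S)) (gZ : Z' ⟶ T'),
      IsPullback e gZ (w.fiberToSpecResidueField (genericPoint S)) h →
        ∃ q, IsPullback q (gZ ≫ T'.isoSpec.hom) (pullback.snd w (σ i₀)) (c.π.app i₀) := by
    intro Z Z' w e gZ he
    have h1 : IsPullback (e ≫ w.fiberι (genericPoint S)) (gZ ≫ T'.isoSpec.hom) w
        (T'.isoSpec.inv ≫ t) :=
      (he.paste_horiz (IsPullback.of_hasPullback w _)).of_iso (Iso.refl _) (Iso.refl _) T'.isoSpec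
        (Iso.refl _) (by simp [Scheme.Hom.fiberι]) (by simp) (by simp) (by simp [t])
    obtain ⟨l, hl₁, hl₂⟩ := (IsPullback.of_hasPullback w (σ i₀)).exists_lift (e ≫ w.fiberι _)
      ((gZ ≫ T'.isoSpec.hom) ≫ c.π.app i₀) (by simp only [Category.assoc, hσ]; simpa [Category.assoc] using h1.w)
    exact ⟨l, IsPullback.of_right (by rw [hl₁, hσ]; exact h1) hl₂ (IsPullback.of_hasPullback w _)⟩
  obtain ⟨qX, hqX⟩ := hP u eX gX' hX'
  obtain ⟨qY, hqY⟩ := hP v eY gY' hY'
  obtain ⟨k, gk, hgk, hgk'⟩ := LimDescend.exists_hom D a b hqX hqY hc g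
    (by rw [← Category.assoc, hg])
  -- descend the property to a further stage
  let bk := pullback.snd b (D.map k.hom)
  haveI : CompactSpace ↥(pullback a (D.map k.hom)) := LimDesc.compactSpace_obj D i₀ a k
  haveI : CompactSpace ↥(pullback b (D.map k.hom)) := LimDesc.compactSpace_obj D i₀ b k
  haveI : QuasiSeparatedSpace ↥(pullback a (D.map k.hom)) := LimDesc.quasiSeparatedSpace_obj D i₀ a k
  haveI : QuasiSeparatedSpace ↥(pullback b (D.map k.hom)) := LimDesc.quasiSeparatedSpace_obj D i₀ b k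
  haveI : LocallyOfFinitePresentation (gk ≫ bk) := by rw [hgk]; infer_instance
  haveI : LocallyOfFinitePresentation gk := DiagGrp.lfp_of_comp_of_lft gk bk inferInstance inferInstance
  have hYk : IsPullback ((LimDesc.cone D i₀ b (c := c) hqY).π.app k) (gY' ≫ T'.isoSpec.hom) bk
      (c.π.app k.left) := by
    refine IsPullback.of_right ?_ (LimDesc.π_snd D i₀ b (c := c) hqY k) (IsPullback.of_hasPullback b (D.map k.hom))
    rw [LimDesc.π_fst, c.w]
    exact hqY
  have hXk : IsPullback ((LimDesc.cone D i₀ a (c := c) hqX).π.app k) (g ≫ gY' ≫ T'.isoSpec.hom) (gk ≫ bk)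
      (c.π.app k.left) := by
    rw [hgk, ← Category.assoc, hg]
    refine IsPullback.of_right ?_ (LimDesc.π_snd D i₀ a (c := c) hqX k) (IsPullback.of_hasPullback a (D.map k.hom))
    rw [LimDesc.π_fst, c.w]
    exact hqX
  have hsq : IsPullback ((LimDesc.cone D i₀ a (c := c) hqX).π.app k) g gk
      ((LimDesc.cone D i₀ b (c := c) hqY).π.app k) := IsPullback.of_bot hXk hgk' hYk
  obtain ⟨j, hj⟩ := hD D hc gk bk hYk hsq hQ
  -- spread out over the image of the stage
  let τ := σ j.left
  haveI : LocallyOfFiniteType (Spec.map (CommRingCat.ofHom (algebraMap Γ(S, W) ↥j.left.unop.1))) := by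
    rw [HasRingHomProperty.Spec_iff (P := @LocallyOfFiniteType)]
    haveI : Algebra.FiniteType Γ(S, W) ↥j.left.unop.1 :=
      ⟨(Subalgebra.fg_top _).mpr j.left.unop.2⟩
    exact RingHom.finiteType_algebraMap.mpr inferInstance
  haveI : LocallyOfFiniteType τ := inferInstanceAs (LocallyOfFiniteType
    (Spec.map (CommRingCat.ofHom (algebraMap Γ(S, W) ↥j.left.unop.1)) ≫ hW.fromSpec))
  haveI : QuasiCompact τ := quasiCompact_of_compactSpace τ
  haveI : LocallyOfFinitePresentation τ := inferInstance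
  have hrange : Set.range τ ⊆ ConsPropPair.locusPair (pairRel Q) u v := by
    rintro _ ⟨z, rfl⟩
    let N := (LimDesc.mapNat D k.left bk (gk ≫ bk) gk rfl).app j
    let sY := pullback.snd bk (D.map j.hom)
    have hτ : D.map j.hom ≫ D.map k.hom ≫ σ i₀ = τ := by rw [hσD, hσD]
    have hYj : IsPullback ((pullback.fst bk (D.map j.hom) ≫ pullback.fst b (D.map k.hom)) ≫
        pullback.fst v (σ i₀)) sY v τ := by
      rw [← hτ, ← Category.assoc]
      exact (((IsPullback.of_hasPullback bk (D.map j.hom)).paste_horiz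
        (IsPullback.of_hasPullback b (D.map k.hom))).paste_horiz (IsPullback.of_hasPullback v (σ i₀)))
    have hXj : IsPullback ((pullback.fst (gk ≫ bk) (D.map j.hom) ≫ pullback.fst a (D.map k.hom)) ≫
        pullback.fst u (σ i₀)) (N ≫ sY) u τ := by
      rw [← hτ, ← Category.assoc, LimDesc.mapNat_snd]
      have h0 : IsPullback (pullback.fst (gk ≫ bk) (D.map j.hom)) (pullback.snd (gk ≫ bk) (D.map j.hom))
          (pullback.snd a (D.map k.hom)) (D.map j.hom) := by
        rw [← hgk]; exact IsPullback.of_hasPullback _ _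
      exact (h0.paste_horiz (IsPullback.of_hasPullback a (D.map k.hom))).paste_horiz
        (IsPullback.of_hasPullback u (σ i₀))
    obtain ⟨iX, -, hiX⟩ := FibreBC.exists_isPullback_fiber hXj z
    obtain ⟨iY, -, hiY⟩ := FibreBC.exists_isPullback_fiber hYj z
    exact ⟨_, _, _, _, _, _, iX, iY, inferInstance, inferInstance, hiX, hiY, MoreMor.fiberMap N sY z,
      pullback.lift_snd _ _ _, Q.of_isPullback (isPullback_fiberMap N sY z) hj⟩
  have hgen : genericPoint S ∈ Set.range τ := by
    refine ⟨c.π.app j.left (T'.isoSpec.hom z₀), ?_⟩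
    show (T'.isoSpec.hom ≫ c.π.app j.left ≫ τ) z₀ = _
    rw [hσ, T'.isoSpec.hom_inv_id_assoc]
    have : S.fromSpecResidueField (genericPoint S) (h z₀) ∈
        Set.range (S.fromSpecResidueField (genericPoint S)) := ⟨_, rfl⟩
    rwa [Scheme.range_fromSpecResidueField, Set.mem_singleton_iff] at this
  have hcons : IsConstructible (Set.range τ) := by
    rw [← Set.image_univ]
    exact τ.isConstructible_image IsConstructible.univ
  exact (interior_nonempty_of_genericPoint_mem hcons hgen).mono (interior_mono hrange)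

/-- The existence, after a field extension, of a morphism with a descending property is an
ind-constructible property of pairs. -/
theorem isIndConsPair_pairRel [Q.IsStableUnderBaseChange] (hD : DescendsToStage Q) :
    ConsPropPair.IsIndConsPair (pairRel Q) :=
  ⟨isFieldStablePair_pairRel Q, fun _ _ _ u v _ _ _ _ _ _ h => interior_locusPair_pairRel Q hD u v h⟩

end GrothLib.ConsLim
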