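import Groth.Agent.Lib.ConsLim.Main
import Groth.Agent.Lib.ConsLim.Pair
import Groth.Agent.Lib.FibreDim6.Scheme
import Groth.Agent.Lib.FibreDimAt6.ZeroDim
import Mathlib.AlgebraicGeometry.Morphisms.FlatDescent

/-!
# Examples of constructible properties, and the fibrewise property
-/

set_option autoImplicit false
set_option backward.isDefEq.respectTransparency false
set_option linter.style.haveILetI false
universe u

open CategoryTheory Limits AlgebraicGeometry Topology TopologicalSpace Set

noncomputable section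

namespace GrothLib.ConsLim

variable {X Y S T T' : Scheme.{u}}

/-- A morphism between spectra of fields is surjective, flat and quasi-compact. -/
theorem surjective_flat_qc_of_point [IsIntegral T] [Subsingleton T] [IsIntegral T'] [Subsingleton T']
    (h : T' ⟶ T) : Surjective h ∧ Flat h ∧ QuasiCompact h := by
  haveI : ∀ (Z : Scheme.{u}) [Subsingleton Z] [Nonempty Z], IsAffine Z := fun Z _ _ => by
    obtain ⟨z₀⟩ : Nonempty Z := inferInstance
    obtain ⟨U, hU, hzU, -⟩ := exists_isAffineOpen_mem_and_subset (Opens.mem_top z₀)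
    have e : U = ⊤ := top_le_iff.mp fun z _ => Subsingleton.elim z₀ z ▸ hzU
    exact IsAffine.of_isIso Z.topIso.inv (h := (e ▸ hU : IsAffineOpen (⊤ : Z.Opens)))
  haveI : CompactSpace T' := inferInstance
  refine ⟨⟨fun y => ⟨Classical.arbitrary T', Subsingleton.elim _ _⟩⟩, ?_, quasiCompact_of_compactSpace h⟩
  rw [HasRingHomProperty.iff_of_isAffine (P := @Flat)]
  letI := (isField_of_isIntegral_of_subsingleton T).toField
  algebraize [h.appTop.hom]
  exact (inferInstance : Module.Flat Γ(T, ⊤) Γ(T', ⊤))

theorem surjective_of_isPullback_point [IsIntegral T] [Subsingleton T] [IsIntegral T'] [Subsingleton T']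
    {Y' : Scheme.{u}} {g : Y ⟶ T} {g' : Y' ⟶ T'} {e : Y' ⟶ Y} {h : T' ⟶ T} (hY : IsPullback e g' g h) :
    Surjective e :=
  MorphismProperty.of_isPullback (P := @Surjective) hY.flip (surjective_flat_qc_of_point h).1

/-- Over a point, the dimension of the source is the dimension of the fibre. -/
theorem dim_eq_dim_fiber [Subsingleton T] (g : Y ⟶ T) (t : T) :
    topologicalKrullDim ↥Y = topologicalKrullDim ↥(g.fiber t) := by
  rw [← FibreDimAt6.dim_preimage_eq g t, show (g ⁻¹' {t} : Set Y) = univ from
    eq_univ_of_forall fun y => Subsingleton.elim _ _]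
  exact ((Homeomorph.Set.univ Y).isHomeomorph.topologicalKrullDim_eq _).symm

theorem dim_eq_of_isPullback_point [IsIntegral T] [Subsingleton T] [IsIntegral T'] [Subsingleton T']
    {Y' : Scheme.{u}} {g : Y ⟶ T} [LocallyOfFiniteType g] {g' : Y' ⟶ T'} {e : Y' ⟶ Y} {h : T' ⟶ T}
    (hY : IsPullback e g' g h) : topologicalKrullDim ↥Y = topologicalKrullDim ↥Y' := by
  obtain ⟨t'⟩ : Nonempty T' := inferInstance
  rw [dim_eq_dim_fiber g (h t'), dim_eq_dim_fiber g' t', FibreBC.topologicalKrullDim_fiber hY t']

/-- The dimension lying in a given set is a constructible property. -/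
theorem isCons_dim (Φ : Set (WithBot ℕ∞)) :
    ConsProp.IsCons (fun (Y T : Scheme.{u}) (_ : Y ⟶ T) => topologicalKrullDim ↥Y ∈ Φ) := by
  refine ⟨fun Y Y' T T' g g' e h _ _ _ _ _ _ hY => by simp only [dim_eq_of_isPullback_point hY],
    fun X S u _ _ _ _ => ?_⟩
  obtain ⟨V, hV, hd⟩ := FibreDim6.exists_dim_fiber_eq u
  by_cases hη : topologicalKrullDim ↥(u.fiber (genericPoint S)) ∈ Φ
  · refine Or.inl (hV.mono (V.2.subset_interior_iff.mpr fun s hs => ?_))
    show topologicalKrullDim ↥(u.fiber s) ∈ Φ
    rw [hd s hs]; exact hη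
  · refine Or.inr (hV.mono (V.2.subset_interior_iff.mpr fun s hs => ?_))
    show ¬ topologicalKrullDim ↥(u.fiber s) ∈ Φ
    rw [hd s hs]; exact hη

/-- Two properties agreeing on all algebraic schemes over fields are constructible together. -/
theorem isCons_congr {P Q : ∀ ⦃Y T : Scheme.{u}⦄, (Y ⟶ T) → Prop} (hP : ConsProp.IsCons P)
    (e : ∀ ⦃Y T : Scheme.{u}⦄ (g : Y ⟶ T) [IsIntegral T] [Subsingleton T] [LocallyOfFiniteType g]
      [QuasiCompact g], P g ↔ Q g) : ConsProp.IsCons Q := by
  refine ⟨fun Y Y' T T' g g' eY h _ _ _ _ _ _ hY => ?_, fun X S u _ _ _ _ => ?_⟩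
  · haveI : LocallyOfFiniteType g' := MorphismProperty.of_isPullback hY inferInstance
    haveI : QuasiCompact g' := MorphismProperty.of_isPullback hY inferInstance
    rw [← e g, ← e g']
    exact hP.1 g g' eY h hY
  · have h' : ConsProp.locus P u = ConsProp.locus Q u := Set.ext fun s => by
      haveI := (finiteType_fiber u s).1
      haveI := (finiteType_fiber u s).2
      exact e (u.fiberToSpecResidueField s)
    exact h' ▸ hP.2 u

theorem isFinite_iff_dim_le_zero (g : Y ⟶ T) [IsIntegral T] [Subsingleton T] [LocallyOfFiniteType g]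
    [QuasiCompact g] : IsFinite g ↔ topologicalKrullDim ↥Y ≤ 0 := by
  obtain ⟨t⟩ : Nonempty T := inferInstance
  refine ⟨fun _ => ?_, fun h => ?_⟩
  · rw [dim_eq_dim_fiber g t]
    exact FibreDimAt6.dim_fiber_le_zero_of_quasiFinite g t
  · haveI := FibreDimAt6.locallyQuasiFinite_of_dim_fiber_le_zero g fun s => by
      rwa [← dim_eq_dim_fiber g s]
    exact IsFinite.of_locallyQuasiFinite g

/-- Being finite over the field is constructible. -/
theorem isCons_isFinite : ConsProp.IsCons (fun (Y T : Scheme.{u}) (g : Y ⟶ T) => IsFinite g) :=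
  isCons_congr (isCons_dim (Set.Iic 0)) fun _ _ g _ _ _ _ => (isFinite_iff_dim_le_zero g).symm

/-- Universal injectivity of a base change along a point of the base. -/
theorem universallyInjective_fiber_iff (f : X ⟶ S) (s : S) :
    UniversallyInjective (f.fiberToSpecResidueField s) ↔
      ∀ p : ↥(pullback f f), f (pullback.fst f f p) = s → p ∈ Set.range (pullback.diagonal f) := by
  have hY : IsPullback (S.fromSpecResidueField s) (𝟙 _) (𝟙 S) (S.fromSpecResidueField s) :=
    IsPullback.of_id_snd
  let f' := f.fiberToSpecResidueField s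
  obtain ⟨qW, h1, h2, hW⟩ := LimDesc.exists_isPullback_kernel (f := f') hY
    (IsPullback.of_hasPullback f (S.fromSpecResidueField s) : IsPullback (f.fiberι s) f' f _)
  have hd : pullback.diagonal f' ≫ qW = f.fiberι s ≫ pullback.diagonal f := by
    apply pullback.hom_ext <;> simp [h1, h2] <;> rfl
  rw [UniversallyInjective.iff_diagonal]
  constructor
  · intro h p hp
    obtain ⟨z, hz⟩ : s ∈ Set.range (S.fromSpecResidueField s) := by
      rw [Scheme.range_fromSpecResidueField]; rfl
    obtain ⟨w, hw, -⟩ := Scheme.exists_preimage_of_isPullback hW p z (by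
      rw [hz, Category.comp_id, Scheme.Hom.comp_apply]; exact hp)
    obtain ⟨x, rfl⟩ := h.surj w
    exact ⟨f.fiberι s x, by rw [← Scheme.Hom.comp_apply, ← hd, Scheme.Hom.comp_apply]; exact hw⟩
  · intro h
    refine ⟨fun w => ?_⟩
    haveI : IsPreimmersion qW := MorphismProperty.of_isPullback (P := @IsPreimmersion) hW.flip inferInstance
    have hs : f (pullback.fst f f (qW w)) = s := by
      have := congr($(hW.w) w)
      simp only [Category.comp_id, Scheme.Hom.comp_apply] at this
      rw [this]
      have hmem : S.fromSpecResidueField s (f' (pullback.fst f' f' w)) ∈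
          Set.range (S.fromSpecResidueField s) := ⟨_, rfl⟩
      rwa [Scheme.range_fromSpecResidueField, Set.mem_singleton_iff] at hmem
    obtain ⟨x, hx⟩ := h (qW w) hs
    obtain ⟨x', hx'⟩ : x ∈ Set.range (f.fiberι s) := by
      rw [Scheme.Hom.range_fiberι, mem_preimage, mem_singleton_iff, ← hs, ← hx,
        ← Scheme.Hom.comp_apply, ← Scheme.Hom.comp_apply, pullback.diagonal_fst_assoc]
    refine ⟨x', qW.injective ?_⟩
    rw [← Scheme.Hom.comp_apply, hd, Scheme.Hom.comp_apply, hx', hx]

/-- Universal injectivity can be checked on fibres. -/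
theorem universallyInjective_iff_fiber (f : X ⟶ S) :
    UniversallyInjective f ↔ ∀ s : S, UniversallyInjective (f.fiberToSpecResidueField s) := by
  refine ⟨fun h s => MorphismProperty.pullback_snd f _ h, fun h => ?_⟩
  rw [UniversallyInjective.iff_diagonal]
  exact ⟨fun p => (universallyInjective_fiber_iff f _).mp (h _) p rfl⟩

/-- Being radicial over the field is constructible. -/
theorem isCons_universallyInjective :
    ConsProp.IsCons (fun (Y T : Scheme.{u}) (g : Y ⟶ T) => UniversallyInjective g) := by
  refine ⟨fun Y Y' T T' g g' e h _ _ _ _ _ _ hY => ⟨fun hg => MorphismProperty.of_isPullback hY hg,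
    fun hg => MorphismProperty.of_isPullback_of_descendsAlong (P := @UniversallyInjective)
      (Q := @Surjective ⊓ @Flat ⊓ @QuasiCompact) hY.flip
      ⟨⟨(surjective_flat_qc_of_point h).1, (surjective_flat_qc_of_point h).2.1⟩,
        (surjective_flat_qc_of_point h).2.2⟩ hg⟩, fun X S u _ _ _ _ => ?_⟩
  haveI : IsLocallyNoetherian X := LocallyOfFiniteType.isLocallyNoetherian u
  haveI : QuasiSeparated u := inferInstance
  haveI : LocallyOfFinitePresentation u := inferInstance
  haveI : CompactSpace X := QuasiCompact.compactSpace_of_compactSpace u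
  let π : pullback u u ⟶ S := pullback.fst u u ≫ u
  haveI : LocallyOfFiniteType (pullback.diagonal u ≫ pullback.fst u u) := by
    rw [pullback.diagonal_fst]; infer_instance
  haveI : LocallyOfFiniteType (pullback.diagonal u) :=
    locallyOfFiniteType_of_comp (pullback.diagonal u) (pullback.fst u u)
  haveI : LocallyOfFinitePresentation (pullback.fst u u) := MorphismProperty.pullback_fst _ _ inferInstance
  haveI : IsLocallyNoetherian (pullback u u) :=
    LocallyOfFiniteType.isLocallyNoetherian (pullback.fst u u)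
  haveI : LocallyOfFinitePresentation (pullback.diagonal u) := inferInstance
  haveI : CompactSpace ↥(pullback u u) := QuasiCompact.compactSpace_of_compactSpace (pullback.fst u u)
  haveI : QuasiCompact π := quasiCompact_of_compactSpace π
  haveI : QuasiCompact (pullback.diagonal u) := inferInstance
  have hcons : IsConstructible (π '' (Set.range (pullback.diagonal u))ᶜ)ᶜ := by
    refine (π.isConstructible_image (IsConstructible.compl ?_)).compl
    rw [← Set.image_univ]
    exact (pullback.diagonal u).isConstructible_image IsConstructible.univ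
  have e : ConsProp.locus (fun (Y T : Scheme.{u}) (g : Y ⟶ T) => UniversallyInjective g) u =
      (π '' (Set.range (pullback.diagonal u))ᶜ)ᶜ := Set.ext fun s => by
    refine (universallyInjective_fiber_iff u s).trans ⟨fun h => ?_, fun h p hp => ?_⟩
    · rintro ⟨p, hp, rfl⟩; exact hp (h p rfl)
    · by_contra h'; exact h ⟨p, h', hp⟩
  rw [e]
  by_cases hη : genericPoint S ∈ (π '' (Set.range (pullback.diagonal u))ᶜ)ᶜ
  · exact Or.inl (interior_nonempty_of_genericPoint_mem hcons hη)
  · exact Or.inr (interior_nonempty_of_genericPoint_mem hcons.compl hη)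

/-- The property `P` at every fibre of a morphism. -/
def fibrewise (P : ∀ ⦃Y T : Scheme.{u}⦄, (Y ⟶ T) → Prop) :
    ∀ ⦃X Y T : Scheme.{u}⦄, (X ⟶ Y) → (Y ⟶ T) → Prop :=
  fun _ Y _ f _ => ∀ y : ↥Y, P (f.fiberToSpecResidueField y)

theorem setup_mor {f : X ⟶ Y} {g : Y ⟶ S} [IsLocallyNoetherian S] [CompactSpace S]
    [LocallyOfFiniteType g] [QuasiCompact g] [LocallyOfFiniteType (f ≫ g)] [QuasiCompact (f ≫ g)] :
    LocallyOfFinitePresentation f ∧ QuasiCompact f ∧ QuasiSeparated f ∧
      LocallyOfFinitePresentation g := by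
  haveI : LocallyOfFiniteType f := locallyOfFiniteType_of_comp f g
  haveI : IsLocallyNoetherian Y := LocallyOfFiniteType.isLocallyNoetherian g
  haveI : IsLocallyNoetherian X := LocallyOfFiniteType.isLocallyNoetherian f
  haveI : CompactSpace X := QuasiCompact.compactSpace_of_compactSpace (f ≫ g)
  exact ⟨inferInstance, quasiCompact_of_compactSpace f, inferInstance, inferInstance⟩

theorem isFieldStableMor_fibrewise {P : ∀ ⦃Y T : Scheme.{u}⦄, (Y ⟶ T) → Prop}
    (hP : ConsProp.IsFieldStable P) : ConsProp.IsFieldStableMor (fibrewise P) := by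
  intro X X' Y Y' T T' f g f' g' eX eY h _ _ _ _ _ _ _ _ hY hX
  haveI := surjective_of_isPullback_point hY
  haveI : CompactSpace T := Finite.compactSpace
  obtain ⟨_, _, _, _⟩ := setup_mor (f := f) (g := g)
  have key : ∀ y' : Y', P (f.fiberToSpecResidueField (eY y')) ↔ P (f'.fiberToSpecResidueField y') :=
    fun y' => by
      obtain ⟨i, -, hi⟩ := FibreBC.exists_isPullback_fiber hX y'
      haveI := (finiteType_fiber f (eY y')).1
      haveI := (finiteType_fiber f (eY y')).2
      exact hP _ _ i _ hi
  exact ⟨fun H y' => (key y').mp (H _), fun H y => by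
    obtain ⟨y', rfl⟩ := eY.surjective y
    exact (key y').mpr (H y')⟩

theorem locusMor_fibrewise {P : ∀ ⦃Y T : Scheme.{u}⦄, (Y ⟶ T) → Prop} (hP : ConsProp.IsFieldStable P)
    (f : X ⟶ Y) (g : Y ⟶ S) [LocallyOfFiniteType f] [QuasiCompact f] :
    ConsProp.locusMor (fibrewise P) f g = (g '' (ConsProp.locus P f)ᶜ)ᶜ := by
  have key : ∀ (s : S) (y : ↥(g.fiber s)),
      P ((MoreMor.fiberMap f g s).fiberToSpecResidueField y) ↔ g.fiberι s y ∈ ConsProp.locus P f :=
    fun s y => mem_locus_iff hP (isPullback_fiberMap f g s) y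
  ext s
  refine ⟨fun H => ?_, fun H y => (key s y).mpr ?_⟩
  · rintro ⟨y, hy, rfl⟩
    obtain ⟨y', hy'⟩ : y ∈ Set.range (g.fiberι (g y)) := by
      rw [Scheme.Hom.range_fiberι]; rfl
    have h1 := (key _ y').mp (H y')
    rw [hy'] at h1
    exact hy h1
  · by_contra h'
    refine H ⟨_, h', ?_⟩
    have hm : g.fiberι s y ∈ Set.range (g.fiberι s) := ⟨_, rfl⟩
    rwa [Scheme.Hom.range_fiberι] at hm

/-- The fibrewise version of a constructible property is constructible. -/
theorem isConsMor_fibrewise {P : ∀ ⦃Y T : Scheme.{u}⦄, (Y ⟶ T) → Prop} (hP : ConsProp.IsCons P) :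
    ConsProp.IsConsMor (fibrewise P) := by
  refine ⟨isFieldStableMor_fibrewise hP.1, fun X Y S f g _ _ _ _ _ _ => ?_⟩
  obtain ⟨_, _, _, _⟩ := setup_mor (f := f) (g := g)
  haveI : IsLocallyNoetherian Y := LocallyOfFiniteType.isLocallyNoetherian g
  haveI : CompactSpace Y := QuasiCompact.compactSpace_of_compactSpace g
  rw [locusMor_fibrewise hP.1]
  have hc : IsConstructible (g '' (ConsProp.locus P f)ᶜ)ᶜ :=
    (g.isConstructible_image
      (isLocallyConstructible_locus hP f).isConstructible.compl).compl
  by_cases hη : genericPoint S ∈ (g '' (ConsProp.locus P f)ᶜ)ᶜ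
  · exact Or.inl (interior_nonempty_of_genericPoint_mem hc hη)
  · exact Or.inr (interior_nonempty_of_genericPoint_mem hc.compl hη)

/-- The fibrewise version of an ind-constructible property is ind-constructible. -/
theorem isIndConsMor_fibrewise {P : ∀ ⦃Y T : Scheme.{u}⦄, (Y ⟶ T) → Prop} (hP : ConsProp.IsIndCons P) :
    ConsProp.IsIndConsMor (fibrewise P) := by
  refine ⟨isFieldStableMor_fibrewise hP.1, fun X Y S f g _ _ _ _ _ _ hη => ?_⟩
  obtain ⟨_, _, _, _⟩ := setup_mor (f := f) (g := g)
  haveI : IsLocallyNoetherian Y := LocallyOfFiniteType.isLocallyNoetherian g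
  rw [locusMor_fibrewise hP.1] at hη ⊢
  have h0 : ProCons.IsProConstructible (ConsProp.locus P f)ᶜ :=
    Constr.isProConstructible_iff_compl.mpr ((compl_compl (ConsProp.locus P f)).symm ▸ isIndConstructible_locus hP f)
  have hi := Constr.isProConstructible_iff_compl.mp (Constr.isProConstructible_image g h0)
  refine ⟨genericPoint S, (Constr.mem_interior_iff hi).mpr fun x' hx' => ?_⟩
  rwa [hx'.antisymm (genericPoint_specializes x') |>.eq]

/-- Two properties of morphisms agreeing on all algebraic schemes over fields are constructible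
together. -/
theorem isConsMor_congr {P Q : ∀ ⦃X Y T : Scheme.{u}⦄, (X ⟶ Y) → (Y ⟶ T) → Prop}
    (hP : ConsProp.IsConsMor P)
    (e : ∀ ⦃X Y T : Scheme.{u}⦄ (f : X ⟶ Y) (g : Y ⟶ T) [IsIntegral T] [Subsingleton T]
      [LocallyOfFiniteType g] [QuasiCompact g] [LocallyOfFiniteType (f ≫ g)] [QuasiCompact (f ≫ g)],
      P f g ↔ Q f g) : ConsProp.IsConsMor Q := by
  refine ⟨fun X X' Y Y' T T' f g f' g' eX eY h _ _ _ _ _ _ _ _ hY hX => ?_,
    fun X Y S f g _ _ _ _ _ _ => ?_⟩
  · haveI : LocallyOfFiniteType g' := MorphismProperty.of_isPullback hY inferInstance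
    haveI : QuasiCompact g' := MorphismProperty.of_isPullback hY inferInstance
    haveI : LocallyOfFiniteType (f' ≫ g') := MorphismProperty.of_isPullback (hX.paste_vert hY) inferInstance
    haveI : QuasiCompact (f' ≫ g') := MorphismProperty.of_isPullback (hX.paste_vert hY) inferInstance
    rw [← e f g, ← e f' g']
    exact hP.1 f g f' g' eX eY h hY hX
  · have h' : ConsProp.locusMor P f g = ConsProp.locusMor Q f g := Set.ext fun s => by
      haveI := (finiteType_fiber g s).1
      haveI := (finiteType_fiber g s).2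
      have he : MoreMor.fiberMap f g s ≫ g.fiberToSpecResidueField s =
          (f ≫ g).fiberToSpecResidueField s := pullback.lift_snd _ _ _
      haveI : LocallyOfFiniteType (MoreMor.fiberMap f g s ≫ g.fiberToSpecResidueField s) := by
        rw [he]; exact (finiteType_fiber (f ≫ g) s).1
      haveI : QuasiCompact (MoreMor.fiberMap f g s ≫ g.fiberToSpecResidueField s) := by
        rw [he]; exact (finiteType_fiber (f ≫ g) s).2
      exact e (MoreMor.fiberMap f g s) (g.fiberToSpecResidueField s)
    exact h' ▸ hP.2 f g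

/-- Being quasi-finite is constructible. -/
theorem isConsMor_quasiFinite : ConsProp.IsConsMor (fun (X Y T : Scheme.{u}) (f : X ⟶ Y) (_ : Y ⟶ T) =>
    LocallyOfFiniteType f ∧ QuasiCompact f ∧ LocallyQuasiFinite f) := by
  refine isConsMor_congr (isConsMor_fibrewise isCons_isFinite) fun X Y T f g _ _ _ _ _ _ => ?_
  haveI : CompactSpace T := Finite.compactSpace
  obtain ⟨_, _, _, _⟩ := setup_mor (f := f) (g := g)
  exact ⟨fun h => ⟨inferInstance, inferInstance, locallyQuasiFinite_iff_isFinite_fiber.mpr h⟩,
    fun h => locallyQuasiFinite_iff_isFinite_fiber.mp h.2.2⟩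

/-- Being radicial is constructible. -/
theorem isConsMor_universallyInjective : ConsProp.IsConsMor
    (fun (X Y T : Scheme.{u}) (f : X ⟶ Y) (_ : Y ⟶ T) => UniversallyInjective f) :=
  isConsMor_congr (isConsMor_fibrewise isCons_universallyInjective)
    fun _ _ _ f _ _ _ _ _ _ _ => (universallyInjective_iff_fiber f).symm

end GrothLib.ConsLim
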